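import Groth.Agent.L17.DerBC.MapHomology
import Groth.Agent.L10.DerivedAdjCx
import Groth.Agent.L10.KInjDerived
import Groth.Agent.L10.KInjTransfer

/-!
# The base change transformation between unbounded derived functors along exact adjunctions

For exact adjunctions `LX ⊣ RX`, `LY ⊣ RY` and `RX ⋙ F ≅ G ⋙ RY` there is a natural transformation
`LY RF ⟶ RG LX`; on cohomology objects it is the mate of `H^i RF` of the unit followed by an isomorphism.
-/

set_option autoImplicit false
set_option linter.style.haveILetI false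
set_option linter.unusedSectionVars false
set_option backward.defeqAttrib.useBackward true
set_option backward.isDefEq.respectTransparency false
set_option backward.isDefEq.respectTransparency.types false

universe w₁ w₂ w₃ w₄ v₁ v₂ v₃ v₄ u₁ u₂ u₃ u₄

open CategoryTheory CategoryTheory.Limits DerivedCategory

noncomputable section

namespace Groth.L17.DerBC

open Groth.L10.ExactAdj (adjCx adjD)

variable {A : Type u₁} [Category.{v₁} A] [Abelian A] [HasDerivedCategory.{w₁} A]
  {A' : Type u₂} [Category.{v₂} A'] [Abelian A'] [HasDerivedCategory.{w₂} A']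
  {B : Type u₃} [Category.{v₃} B] [Abelian B] [HasDerivedCategory.{w₃} B]
  {B' : Type u₄} [Category.{v₄} B'] [Abelian B'] [HasDerivedCategory.{w₄} B']

/-- The localization square of the counit of a derived adjunction. -/
theorem counit_app_Q {L : A ⥤ A'} {R : A' ⥤ A} [L.Additive] [R.Additive]
    [PreservesFiniteLimits L] [PreservesFiniteColimits L] [PreservesFiniteLimits R] [PreservesFiniteColimits R]
    (adj : L ⊣ R) (J : CochainComplex A' ℤ) :
    (adjD adj).counit.app (Q.obj J) = L.mapDerivedCategory.map (R.mapDerivedCategoryFactors.hom.app J) ≫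
      L.mapDerivedCategoryFactors.hom.app ((R.mapHomologicalComplex (ComplexShape.up ℤ)).obj J) ≫
      Q.map ((adjCx adj).counit.app J) := by
  letI : CatCommSq (L.mapHomologicalComplex (ComplexShape.up ℤ)) DerivedCategory.Q DerivedCategory.Q L.mapDerivedCategory :=
    ⟨L.mapDerivedCategoryFactors.symm⟩
  letI : CatCommSq (R.mapHomologicalComplex (ComplexShape.up ℤ)) DerivedCategory.Q DerivedCategory.Q R.mapDerivedCategory :=
    ⟨R.mapDerivedCategoryFactors.symm⟩
  exact Adjunction.localization_counit_app (adjCx adj) DerivedCategory.Q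
    (HomologicalComplex.quasiIso A (ComplexShape.up ℤ)) DerivedCategory.Q
    (HomologicalComplex.quasiIso A' (ComplexShape.up ℤ)) L.mapDerivedCategory R.mapDerivedCategory J

/-- The localization square of the unit of a derived adjunction. -/
theorem unit_app_Q {L : A ⥤ A'} {R : A' ⥤ A} [L.Additive] [R.Additive]
    [PreservesFiniteLimits L] [PreservesFiniteColimits L] [PreservesFiniteLimits R] [PreservesFiniteColimits R]
    (adj : L ⊣ R) (K : CochainComplex A ℤ) :
    (adjD adj).unit.app (Q.obj K) = Q.map ((adjCx adj).unit.app K) ≫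
      R.mapDerivedCategoryFactors.inv.app ((L.mapHomologicalComplex (ComplexShape.up ℤ)).obj K) ≫
      R.mapDerivedCategory.map (L.mapDerivedCategoryFactors.inv.app K) := by
  letI : CatCommSq (L.mapHomologicalComplex (ComplexShape.up ℤ)) DerivedCategory.Q DerivedCategory.Q L.mapDerivedCategory :=
    ⟨L.mapDerivedCategoryFactors.symm⟩
  letI : CatCommSq (R.mapHomologicalComplex (ComplexShape.up ℤ)) DerivedCategory.Q DerivedCategory.Q R.mapDerivedCategory :=
    ⟨R.mapDerivedCategoryFactors.symm⟩
  exact Adjunction.localization_unit_app (adjCx adj) DerivedCategory.Q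
    (HomologicalComplex.quasiIso A (ComplexShape.up ℤ)) DerivedCategory.Q
    (HomologicalComplex.quasiIso A' (ComplexShape.up ℤ)) L.mapDerivedCategory R.mapDerivedCategory K

variable {LX : A ⥤ A'} {RX : A' ⥤ A} [LX.Additive] [RX.Additive]
  [PreservesFiniteLimits LX] [PreservesFiniteColimits LX] [PreservesFiniteLimits RX] [PreservesFiniteColimits RX]
  (aX : LX ⊣ RX)
  {LY : B ⥤ B'} {RY : B' ⥤ B} [LY.Additive] [RY.Additive]
  [PreservesFiniteLimits LY] [PreservesFiniteColimits LY] [PreservesFiniteLimits RY] [PreservesFiniteColimits RY]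
  (aY : LY ⊣ RY)
  {F : A ⥤ B} {G : A' ⥤ B'} [F.Additive] [G.Additive] (sq : RX ⋙ F ≅ G ⋙ RY)
  {RF : DerivedCategory A ⥤ DerivedCategory B} (α : F.mapHomotopyCategory (ComplexShape.up ℤ) ⋙ Qh ⟶ Qh ⋙ RF)
  {RG : DerivedCategory A' ⥤ DerivedCategory B'} (α' : G.mapHomotopyCategory (ComplexShape.up ℤ) ⋙ Qh ⟶ Qh ⋙ RG)

/-- The square on complexes. -/
def sqC : RX.mapHomologicalComplex (ComplexShape.up ℤ) ⋙ F.mapHomologicalComplex (ComplexShape.up ℤ) ≅
    G.mapHomologicalComplex (ComplexShape.up ℤ) ⋙ RY.mapHomologicalComplex (ComplexShape.up ℤ) :=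
  NatIso.ofComponents (fun K => HomologicalComplex.Hom.isoOfComponents (fun i => sq.app (K.X i))
    fun i j _ => (sq.hom.naturality (K.d i j)).symm) fun {K L} f => by
    ext i
    exact sq.hom.naturality (f.f i)

variable (RG) in
/-- The target of the base change transformation before taking the mate. -/
abbrev tgt : DerivedCategory A ⥤ DerivedCategory B :=
  LX.mapDerivedCategory ⋙ RG ⋙ RY.mapDerivedCategory

/-- The transformation on complexes. -/
def αc : F.mapHomologicalComplex (ComplexShape.up ℤ) ⋙ Q ⟶ Q ⋙ tgt (LX := LX) (RY := RY) RG where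
  app K :=
    let LK := (LX.mapHomologicalComplex (ComplexShape.up ℤ)).obj K
    Q.map ((F.mapHomologicalComplex (ComplexShape.up ℤ)).map ((adjCx aX).unit.app K)) ≫
      Q.map ((sqC sq).hom.app LK) ≫
      RY.mapDerivedCategoryFactors.inv.app ((G.mapHomologicalComplex (ComplexShape.up ℤ)).obj LK) ≫
      RY.mapDerivedCategory.map ((Groth.L10.DerivedAdj.toCx G α').app LK) ≫
      RY.mapDerivedCategory.map (RG.map (LX.mapDerivedCategoryFactors.inv.app K))
  naturality K K' f := by
    let LXc := LX.mapHomologicalComplex (ComplexShape.up ℤ)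
    let Fc := F.mapHomologicalComplex (ComplexShape.up ℤ)
    have h1 : Q.map (Fc.map f) ≫ Q.map (Fc.map ((adjCx aX).unit.app K')) =
        Q.map (Fc.map ((adjCx aX).unit.app K)) ≫
          Q.map (Fc.map ((RX.mapHomologicalComplex (ComplexShape.up ℤ)).map (LXc.map f))) := by
      rw [← Functor.map_comp, ← Functor.map_comp, ← Functor.map_comp, ← Functor.map_comp]
      exact congrArg (fun t => Q.map (Fc.map t)) ((adjCx aX).unit.naturality f)
    have h2 := congrArg Q.map ((sqC sq).hom.naturality (LXc.map f))
    simp only [Functor.comp_map, Functor.map_comp] at h2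
    have h3 := RY.mapDerivedCategoryFactors.inv.naturality
      ((G.mapHomologicalComplex (ComplexShape.up ℤ)).map (LXc.map f))
    have h4 := congrArg RY.mapDerivedCategory.map ((Groth.L10.DerivedAdj.toCx G α').naturality (LXc.map f))
    simp only [Functor.comp_map, Functor.map_comp] at h4
    have h5 := congrArg (fun t => RY.mapDerivedCategory.map (RG.map t))
      (LX.mapDerivedCategoryFactors.inv.naturality f)
    simp only [Functor.comp_map, Functor.map_comp] at h5 h3 ⊢
    simp only [Category.assoc]
    rw [reassoc_of% h1, reassoc_of% h2]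
    erw [reassoc_of% h3]
    erw [reassoc_of% h4]
    erw [h5]

/-- The transformation on complexes for the source. -/
abbrev αF : F.mapHomologicalComplex (ComplexShape.up ℤ) ⋙ Q ⟶ Q ⋙ RF := Groth.L10.DerivedAdj.toCx F α

variable [RF.IsRightDerivedFunctor α (HomotopyCategory.quasiIso A (ComplexShape.up ℤ))]

/-- The transformation adjoint to the base change transformation. -/
def b : RF ⟶ tgt (LX := LX) (RY := RY) RG :=
  RF.rightDerivedDesc α (HomotopyCategory.quasiIso A (ComplexShape.up ℤ)) _
    (Groth.L10.DerivedAdj.toHtpy F (αc aX sq α'))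

theorem αF_b (K : CochainComplex A ℤ) :
    (αF α).app K ≫ (b aX sq α α').app (Q.obj K) = (αc aX sq α').app K := by
  have h := RF.rightDerived_fac_app α (HomotopyCategory.quasiIso A (ComplexShape.up ℤ)) _
    (Groth.L10.DerivedAdj.toHtpy F (αc aX sq α')) ((HomotopyCategory.quotient A (ComplexShape.up ℤ)).obj K)
  have hn := (b aX sq α α').naturality ((quotientCompQhIso A).hom.app K)
  simp only [αF, Groth.L10.DerivedAdj.toCx, Category.assoc]
  erw [hn]
  erw [reassoc_of% h]
  simp only [Groth.L10.DerivedAdj.toHtpy, Category.assoc]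
  erw [Iso.inv_hom_id_app_assoc, ← Functor.map_comp, Iso.inv_hom_id_app, CategoryTheory.Functor.map_id,
    Category.comp_id]
  rfl

/-- The base change transformation. -/
def bc : RF ⋙ LY.mapDerivedCategory ⟶ LX.mapDerivedCategory ⋙ RG where
  app E := ((adjD aY).homEquiv _ _).symm ((b aX sq α α').app E)
  naturality E E' f := by
    simp only [Functor.comp_map]
    rw [← (adjD aY).homEquiv_naturality_left_symm, ← (adjD aY).homEquiv_naturality_right_symm]
    exact congrArg _ ((b aX sq α α').naturality f)

/-- The comparison on the image of the right adjoint. -/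
def θ : RX.mapDerivedCategory ⋙ RF ⟶ RG ⋙ RY.mapDerivedCategory :=
  Functor.whiskerLeft RX.mapDerivedCategory (b aX sq α α') ≫
    Functor.whiskerRight (adjD aX).counit (RG ⋙ RY.mapDerivedCategory)

theorem θ_app (M : DerivedCategory A') : (θ aX sq α α').app M =
    (b aX sq α α').app (RX.mapDerivedCategory.obj M) ≫
      RY.mapDerivedCategory.map (RG.map ((adjD aX).counit.app M)) := rfl

theorem b_eq (E : DerivedCategory A) :
    (b aX sq α α').app E = RF.map ((adjD aX).unit.app E) ≫ (θ aX sq α α').app (LX.mapDerivedCategory.obj E) := by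
  rw [θ_app]
  have hn := (b aX sq α α').naturality ((adjD aX).unit.app E)
  simp only [Functor.comp_obj, Functor.id_obj] at hn
  rw [reassoc_of% hn]
  erw [← RY.mapDerivedCategory.map_comp, ← RG.map_comp, (adjD aX).left_triangle_components,
    CategoryTheory.Functor.map_id, CategoryTheory.Functor.map_id, Category.comp_id]

theorem αF_θ (J : CochainComplex A' ℤ) :
    (αF α).app ((RX.mapHomologicalComplex (ComplexShape.up ℤ)).obj J) ≫
      RF.map (RX.mapDerivedCategoryFactors.inv.app J) ≫ (θ aX sq α α').app (Q.obj J) =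
    Q.map ((sqC sq).hom.app J) ≫
      RY.mapDerivedCategoryFactors.inv.app ((G.mapHomologicalComplex (ComplexShape.up ℤ)).obj J) ≫
      RY.mapDerivedCategory.map ((Groth.L10.DerivedAdj.toCx G α').app J) := by
  let RJ := (RX.mapHomologicalComplex (ComplexShape.up ℤ)).obj J
  let D := RY.mapDerivedCategory
  have hn : RF.map (RX.mapDerivedCategoryFactors.inv.app J) ≫
      (b aX sq α α').app (RX.mapDerivedCategory.obj (Q.obj J)) =
      (b aX sq α α').app (Q.obj RJ) ≫
        D.map (RG.map (LX.mapDerivedCategory.map (RX.mapDerivedCategoryFactors.inv.app J))) :=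
    (b aX sq α α').naturality (RX.mapDerivedCategoryFactors.inv.app J)
  have hc : LX.mapDerivedCategoryFactors.inv.app RJ ≫
      LX.mapDerivedCategory.map (RX.mapDerivedCategoryFactors.inv.app J) ≫ (adjD aX).counit.app (Q.obj J) =
      Q.map ((adjCx aX).counit.app J) := by
    rw [counit_app_Q, ← Functor.map_comp_assoc, Iso.inv_hom_id_app]
    erw [CategoryTheory.Functor.map_id, Category.id_comp]
    exact Iso.inv_hom_id_app_assoc _ _ _
  have hε : D.map ((Groth.L10.DerivedAdj.toCx G α').app ((LX.mapHomologicalComplex _).obj RJ)) ≫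
      D.map (RG.map (Q.map ((adjCx aX).counit.app J))) =
      D.map (Q.map ((G.mapHomologicalComplex (ComplexShape.up ℤ)).map ((adjCx aX).counit.app J))) ≫
        D.map ((Groth.L10.DerivedAdj.toCx G α').app J) := by
    rw [← Functor.map_comp, ← Functor.map_comp]
    exact congrArg D.map ((Groth.L10.DerivedAdj.toCx G α').naturality ((adjCx aX).counit.app J)).symm
  have hf := RY.mapDerivedCategoryFactors.inv.naturality
    ((G.mapHomologicalComplex (ComplexShape.up ℤ)).map ((adjCx aX).counit.app J))
  have hsq := congrArg Q.map ((sqC sq).hom.naturality ((adjCx aX).counit.app J))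
  simp only [Functor.comp_map, Functor.map_comp] at hsq hf
  have htri : Q.map ((F.mapHomologicalComplex (ComplexShape.up ℤ)).map ((adjCx aX).unit.app RJ)) ≫
      Q.map ((F.mapHomologicalComplex (ComplexShape.up ℤ)).map
        ((RX.mapHomologicalComplex (ComplexShape.up ℤ)).map ((adjCx aX).counit.app J))) = 𝟙 _ := by
    rw [← Functor.map_comp, ← Functor.map_comp]
    erw [(adjCx aX).right_triangle_components]
    erw [CategoryTheory.Functor.map_id, CategoryTheory.Functor.map_id]
  rw [θ_app, reassoc_of% hn]
  erw [reassoc_of% (αF_b aX sq α α' RJ)]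
  simp only [αc, Category.assoc]
  erw [← D.map_comp, ← D.map_comp, ← RG.map_comp, ← RG.map_comp, hc]
  erw [hε]
  erw [← reassoc_of% hf]
  erw [← reassoc_of% hsq]
  erw [reassoc_of% htri]

/-- The comparison on the image of the right adjoint is an isomorphism. -/
theorem isIso_θ [RG.IsRightDerivedFunctor α' (HomotopyCategory.quasiIso A' (ComplexShape.up ℤ))]
    [Groth.L10.KInjDerived.EnoughKInjectives A] [Groth.L10.KInjDerived.EnoughKInjectives A']
    (hRX : ∀ J : CochainComplex A' ℤ, J.IsKInjective →
      CochainComplex.IsKInjective ((RX.mapHomologicalComplex (ComplexShape.up ℤ)).obj J)) :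
    IsIso (θ aX sq α α') := by
  suffices ∀ M, IsIso ((θ aX sq α α').app M) from NatIso.isIso_of_isIso_app _
  intro M
  obtain ⟨J, f, hJ, hf⟩ := Groth.L10.KInjDerived.EnoughKInjectives.exists_res (Q.objPreimage M)
  let e : Q.obj J ≅ M := (asIso (Q.map f)).symm ≪≫ Q.objObjPreimageIso M
  refine (NatTrans.isIso_app_iff_of_iso (θ aX sq α α') e).1 ?_
  haveI := hRX J hJ
  haveI : IsIso ((αF α).app ((RX.mapHomologicalComplex (ComplexShape.up ℤ)).obj J)) := by
    haveI := Groth.L10.KInjDerived.isIso_app_quotient α ((RX.mapHomologicalComplex (ComplexShape.up ℤ)).obj J)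
    simp only [αF, Groth.L10.DerivedAdj.toCx]
    infer_instance
  haveI : IsIso ((Groth.L10.DerivedAdj.toCx G α').app J) := by
    haveI := Groth.L10.KInjDerived.isIso_app_quotient α' J
    simp only [Groth.L10.DerivedAdj.toCx]
    infer_instance
  have h := αF_θ aX sq α α' J
  haveI : IsIso ((αF α).app ((RX.mapHomologicalComplex (ComplexShape.up ℤ)).obj J) ≫
      RF.map (RX.mapDerivedCategoryFactors.inv.app J) ≫ (θ aX sq α α').app (Q.obj J)) := by
    rw [h]
    infer_instance
  haveI : IsIso (RF.map (RX.mapDerivedCategoryFactors.inv.app J) ≫ (θ aX sq α α').app (Q.obj J)) :=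
    IsIso.of_isIso_comp_left ((αF α).app _) _
  exact IsIso.of_isIso_comp_left (RF.map (RX.mapDerivedCategoryFactors.inv.app J)) _

variable (i : ℤ)

variable (RF) in
/-- `H^i RF` on complexes. -/
abbrev HF : CochainComplex A ℤ ⥤ B := Q ⋙ RF ⋙ homologyFunctor B i

variable (RG) in
/-- `H^i RG` on complexes. -/
abbrev HG : CochainComplex A' ℤ ⥤ B' := Q ⋙ RG ⋙ homologyFunctor B' i

/-- The comparison of cohomology objects. -/
def β : RX.mapHomologicalComplex (ComplexShape.up ℤ) ⋙ HF RF i ⟶ HG RG i ⋙ RY :=
  Functor.whiskerRight RX.mapDerivedCategoryFactors.inv (RF ⋙ homologyFunctor B i) ≫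
    Functor.whiskerLeft Q (Functor.whiskerRight (θ aX sq α α') (homologyFunctor B i) ≫
      Functor.whiskerLeft RG (hD RY i).hom)

theorem β_app (J : CochainComplex A' ℤ) : (β aX sq α α' i).app J =
    (homologyFunctor B i).map (RF.map (RX.mapDerivedCategoryFactors.inv.app J)) ≫
      (homologyFunctor B i).map ((θ aX sq α α').app (Q.obj J)) ≫ (hD RY i).hom.app (RG.obj (Q.obj J)) := by
  simp [β]

theorem isIso_β [RG.IsRightDerivedFunctor α' (HomotopyCategory.quasiIso A' (ComplexShape.up ℤ))]
    [Groth.L10.KInjDerived.EnoughKInjectives A] [Groth.L10.KInjDerived.EnoughKInjectives A']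
    (hRX : ∀ J : CochainComplex A' ℤ, J.IsKInjective →
      CochainComplex.IsKInjective ((RX.mapHomologicalComplex (ComplexShape.up ℤ)).obj J)) : IsIso (β aX sq α α' i) := by
  haveI := isIso_θ aX sq α α' hRX
  haveI : ∀ J, IsIso ((β aX sq α α' i).app J) := fun J => by
    rw [β_app]
    infer_instance
  exact NatIso.isIso_of_isIso_app _

/-- The transformation on cohomology objects, on complexes. -/
def ψ (K : CochainComplex A ℤ) : (HF RF i).obj K ⟶
    RY.obj ((HG RG i).obj ((LX.mapHomologicalComplex (ComplexShape.up ℤ)).obj K)) :=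
  (HF RF i).map ((adjCx aX).unit.app K) ≫
    (β aX sq α α' i).app ((LX.mapHomologicalComplex (ComplexShape.up ℤ)).obj K)

/-- The base change transformation is an isomorphism on `H^i` iff the mate of `ψ` is. -/
theorem isIso_H_bc_iff (K : CochainComplex A ℤ) :
    IsIso ((homologyFunctor B' i).map ((bc aX aY sq α α').app (Q.obj K))) ↔
      IsIso ((aY.homEquiv _ _).symm (ψ aX sq α α' i K)) := by
  let H := homologyFunctor B i
  let H' := homologyFunctor B' i
  let E := Q.obj K
  let u := (bc aX aY sq α α').app E
  let c : (HG RG i).obj ((LX.mapHomologicalComplex (ComplexShape.up ℤ)).obj K) ⟶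
      H'.obj (RG.obj (LX.mapDerivedCategory.obj E)) := H'.map (RG.map (LX.mapDerivedCategoryFactors.inv.app K))
  haveI : IsIso c := inferInstanceAs (IsIso (H'.map (RG.map _)))
  have hb : (adjD aY).unit.app (RF.obj E) ≫ RY.mapDerivedCategory.map u = (b aX sq α α').app E :=
    ((adjD aY).homEquiv_unit _ _ u).symm.trans (Equiv.apply_symm_apply _ _)
  have h1 : H.map ((b aX sq α α').app E) ≫ (hD RY i).hom.app _ =
      aY.unit.app (H.obj (RF.obj E)) ≫ RY.map ((hD LY i).inv.app (RF.obj E) ≫ H'.map u) := by
    rw [← hb, Functor.map_comp, Category.assoc]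
    have hn : H.map (RY.mapDerivedCategory.map u) ≫ (hD RY i).hom.app _ =
        (hD RY i).hom.app (LY.mapDerivedCategory.obj (RF.obj E)) ≫ RY.map (H'.map u) :=
      (hD RY i).hom.naturality u
    erw [hn]
    rw [← homology_unit aY i (RF.obj E), Category.assoc, Category.assoc, ← RY.map_comp,
      Iso.hom_inv_id_app_assoc]
  have hθ : H.map ((b aX sq α α').app E) ≫ (hD RY i).hom.app (RG.obj (LX.mapDerivedCategory.obj E)) =
      ψ aX sq α α' i K ≫ RY.map c := by
    let LK := (LX.mapHomologicalComplex (ComplexShape.up ℤ)).obj K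
    have n1 : RF.map (RX.mapDerivedCategory.map (LX.mapDerivedCategoryFactors.inv.app K)) ≫
        (θ aX sq α α').app (LX.mapDerivedCategory.obj E) =
        (θ aX sq α α').app (Q.obj LK) ≫
          RY.mapDerivedCategory.map (RG.map (LX.mapDerivedCategoryFactors.inv.app K)) :=
      (θ aX sq α α').naturality (LX.mapDerivedCategoryFactors.inv.app K)
    have n2 : H.map (RY.mapDerivedCategory.map (RG.map (LX.mapDerivedCategoryFactors.inv.app K))) ≫
        (hD RY i).hom.app (RG.obj (LX.mapDerivedCategory.obj E)) =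
        (hD RY i).hom.app (RG.obj (Q.obj LK)) ≫ RY.map c :=
      (hD RY i).hom.naturality _
    rw [b_eq, unit_app_Q, ψ, β_app]
    simp only [Functor.map_comp, Category.assoc]
    have n1' := congrArg H.map n1
    simp only [Functor.map_comp] at n1'
    erw [reassoc_of% n1', n2]
    rfl
  have key : (aY.homEquiv _ _).symm (ψ aX sq α α' i K) =
      ((hD LY i).inv.app (RF.obj E) ≫ H'.map u) ≫ inv c := by
    rw [Equiv.symm_apply_eq, Adjunction.homEquiv_unit, RY.map_comp]
    erw [← reassoc_of% h1]
    erw [reassoc_of% hθ]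
    erw [← RY.map_comp, IsIso.hom_inv_id, CategoryTheory.Functor.map_id]
    exact (Category.comp_id _).symm
  rw [key, isIso_comp_right_iff, isIso_comp_left_iff]

end Groth.L17.DerBC
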