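import Groth.Agent.L17.FSheaf.RpushBC

/-!
# The coherent base change map twisted by an automorphism of the target functor
-/

set_option autoImplicit false
set_option linter.style.haveILetI false
set_option linter.unusedSectionVars false
set_option backward.isDefEq.respectTransparency false
set_option backward.isDefEq.respectTransparency.types false

universe u v₁ u₁ v₂ u₂ v₃ u₃

open CategoryTheory CategoryTheory.Limits AlgebraicGeometry TopologicalSpace Opposite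

noncomputable section

namespace Groth.L17.DerBC

/-- Exact functors have no higher derived functors. -/
theorem acyclic_of_exact {D : Type u₁} [Category.{v₁} D] [Abelian D] [EnoughInjectives D] {E : Type u₂}
    [Category.{v₂} E] [Abelian E] (T : D ⥤ E) [T.Additive] [PreservesFiniteLimits T] [PreservesFiniteColimits T]
    (X : D) : Groth.L17.AcyclicHomology.Acyclic T X := fun q => by
  let I := injectiveResolution X
  refine IsZero.of_iso ?_ (I.isoRightDerivedObj T (q + 1))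
  refine IsZero.of_iso (T.map_isZero ?_) ((I.cocomplex.sc (q + 1)).mapHomologyIso T)
  exact (HomologicalComplex.exactAt_iff_isZero_homology _ _).1 (I.cocomplex_exactAt_succ q)

section

open Groth.L17 Groth.L17.RpushSect Groth.L17.FSheaf Groth.L17.FSheaf.RpushF Groth.L17.FSheaf.RpushComp
open Groth.L17.FSheaf.RpushBC

variable {X Y : Scheme.{u}} (f : X ⟶ Y) {𝔛 𝔜 : FSch.Sys.{u}} (φ : 𝔛 ⟶ 𝔜) (hX : 𝔛.IsLocNoethFormal)
  (hY : 𝔜.IsLocNoethFormal) (p : ∀ k, 𝔛.X k ⟶ X) (hp : ∀ k, 𝔛.ι k ≫ p (k + 1) = p k)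
  (r : ∀ k, 𝔜.X k ⟶ Y) (hr : ∀ k, 𝔜.ι k ≫ r (k + 1) = r k)
  (hsq : ∀ n, p n ≫ f = (φ : FSch.Hom 𝔛 𝔜).app n ≫ r n) (F : X.Modules)
  [PreservesFiniteColimits (kap 𝔛 hX.1 p hp).push] [(kap 𝔛 hX.1 p hp).push.PreservesInjectiveObjects]
  [HasInjectiveResolutions (ModSite.Mod X.sheaf)] [HasInjectiveResolutions (FSch.ModF 𝔛 hX.1)] (q : ℕ)

/-- The comparison functor target. -/
abbrev tgtF : FSch.ModF 𝔛 hX.1 ⥤ ModSite.Mod Y.sheaf := RQ hX hY φ q ⋙ (kap 𝔜 hY.1 r hr).push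

theorem isIso_cmpR [EnoughInjectives (FSch.ModF 𝔜 hY.1)] [PreservesFiniteColimits (kap 𝔜 hY.1 r hr).push] :
    IsIso (cmpR f φ hX.1 hY.1 p hp r hr hsq q) := by
  haveI : IsIso (NatTrans.rightDerived (sqI f φ hX.1 hY.1 p hp r hr hsq).hom q) :=
    (Groth.L10.SiteCoh.rightDerivedCongr (sqI f φ hX.1 hY.1 p hp r hr hsq) q).isIso_hom
  haveI : ∀ M, IsIso ((HomologyCompare.Φ (kap 𝔜 hY.1 r hr).push (FSch.homMor φ hX.1 hY.1).push q).app M) :=
    fun M => HomologyCompare.isIso_Φ_app _ _ _ (fun I _ => acyclic_of_exact _ _) M fun _ => acyclic_of_exact _ _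
  haveI := NatIso.isIso_of_isIso_app (HomologyCompare.Φ (kap 𝔜 hY.1 r hr).push (FSch.homMor φ hX.1 hY.1).push q)
  exact IsIso.comp_isIso

variable (γ : tgtF φ hX hY r hr q ≅ tgtF φ hX hY r hr q)
  [IsLocallyNoetherian X] [IsLocallyNoetherian Y] [IsProper f] (hF : Coh.IsCoh F)
  (hφ : FSch.IsProperHom φ) [IsClosedImmersion (p 0)] [IsClosedImmersion (r 0)]
  (hcl : ∀ k, IsClosedImmersion (p k)) {𝓘 : Y.IdealSheafData}
  (hcut : CutBy 𝔛 p (𝓘.comap f)) (hcutY : CutBy 𝔜 r 𝓘)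
  (hN : Coh.IsCoh (show Y.Modules from Nq f F q))
  (eY : (kap 𝔜 hY.1 r hr).pull.obj (Nq f F q) ≅
    (pullSys 𝔜 r hr (show Y.Modules from Nq f F q)).realMod hY.1)

/-- The twisted comparison, from the limit of the levels. -/
abbrev ΨT : (pullSys 𝔜 r hr (show Y.Modules from Nq f F q)).realMod hY.1 ⟶
    (RQ hX hY φ q).obj (compl hX p hp F) :=
  eY.inv ≫ ((kap 𝔜 hY.1 r hr).adj.homEquiv _ _).symm
    (φR f φ hX hY p hp r hr hsq F q ≫ γ.hom.app (compl hX p hp F))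

/-- The automorphism on sections. -/
def γs (M : FSch.ModF 𝔛 hX.1) (W : Y.Opens) (z : SF 𝔜 hY.1 ((RQ hX hY φ q).obj M) (pU 𝔜 r W)) :
    SF 𝔜 hY.1 ((RQ hX hY φ q).obj M) (pU 𝔜 r W) :=
  ((γ.hom.app M).val.app (op W)).hom z

theorem γs_bijective (M : FSch.ModF 𝔛 hX.1) (W : Y.Opens) : Function.Bijective (γs φ hX hY r hr q γ M W) :=
  ConcreteCategory.bijective_of_isIso
    ((SheafOfModules.forget _ ⋙ PresheafOfModules.evaluation _ (op W)).map (γ.hom.app M))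

theorem γs_sub (M : FSch.ModF 𝔛 hX.1) (W : Y.Opens) (z z' : SF 𝔜 hY.1 ((RQ hX hY φ q).obj M) (pU 𝔜 r W)) :
    γs φ hX hY r hr q γ M W (z - z') = γs φ hX hY r hr q γ M W z - γs φ hX hY r hr q γ M W z' :=
  map_sub ((γ.hom.app M).val.app (op W)).hom z z'

theorem γs_zero (M : FSch.ModF 𝔛 hX.1) (W : Y.Opens) : γs φ hX hY r hr q γ M W 0 = 0 :=
  map_zero ((γ.hom.app M).val.app (op W)).hom

theorem rmap_γs {M N : FSch.ModF 𝔛 hX.1} (g : M ⟶ N) (W : Y.Opens)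
    (z : SF 𝔜 hY.1 ((RQ hX hY φ q).obj M) (pU 𝔜 r W)) :
    rmap hX hY φ q g (pU 𝔜 r W) (γs φ hX hY r hr q γ M W z) =
      γs φ hX hY r hr q γ N W (rmap hX hY φ q g (pU 𝔜 r W) z) :=
  (LinearMap.congr_fun (congrArg (fun t => (SheafOfModules.Hom.val t).app (op W) |>.hom) (γ.hom.naturality g)) z).symm

theorem ΨT_eta (W : Y.Opens) (m : Γ(Nq f F q, W)) :
    ((ΨT f φ hX hY p hp r hr hsq F q γ eY).val.app (op (pU 𝔜 r W))).hom
        (eta 𝔜 hY.1 r hr (show Y.Modules from Nq f F q) eY W m) =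
      γs φ hX hY r hr q γ (compl hX p hp F) W (φS f φ hX hY p hp r hr hsq F q W m) := by
  let ψ := ((kap 𝔜 hY.1 r hr).adj.homEquiv _ _).symm
    (φR f φ hX hY p hp r hr hsq F q ≫ γ.hom.app (compl hX p hp F))
  have h1 : (eY.inv.val.app (op (pU 𝔜 r W))).hom (eta 𝔜 hY.1 r hr (show Y.Modules from Nq f F q) eY W m) =
      (((kap 𝔜 hY.1 r hr).adj.unit.app (Nq f F q)).val.app (op W)).hom m :=
    LinearMap.congr_fun (congrArg (fun t => ((t : _ ⟶ (kap 𝔜 hY.1 r hr).pull.obj (Nq f F q)).val.app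
      (op (pU 𝔜 r W))).hom) eY.hom_inv_id) _
  have h2 : (kap 𝔜 hY.1 r hr).adj.unit.app (Nq f F q) ≫ (kap 𝔜 hY.1 r hr).push.map ψ =
      φR f φ hX hY p hp r hr hsq F q ≫ γ.hom.app (compl hX p hp F) :=
    ((kap 𝔜 hY.1 r hr).adj.homEquiv_unit _ _ ψ).symm.trans (Equiv.apply_symm_apply _ _)
  exact (congrArg (ψ.val.app (op (pU 𝔜 r W))).hom h1).trans
    (LinearMap.congr_fun (congrArg (fun t => ((t : Nq f F q ⟶ _).val.app (op W)).hom) h2) m)

variable (heY : ∀ k, ((kap 𝔜 hY.1 r hr).adj.homEquiv _ _ eY.hom) ≫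
    (kap 𝔜 hY.1 r hr).push.map (FSch.realProj 𝔜 hY.1 (pullSys 𝔜 r hr (show Y.Modules from Nq f F q)).F
      (pullSys 𝔜 r hr (show Y.Modules from Nq f F q)).toPush k) =
    (Scheme.Modules.pullbackPushforwardAdjunction (r k)).unit.app (show Y.Modules from Nq f F q) ≫
      (FSch.schPushCompare 𝔜 hY.1 r hr k).app ((Scheme.Modules.pullback (r k)).obj (show Y.Modules from Nq f F q)))

include hF hφ hcl hcut hcutY hN heY in
theorem bijective_ΨT {W : Y.Opens} (hW : IsAffineOpen W) :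
    Function.Bijective ((ΨT f φ hX hY p hp r hr hsq F q γ eY).val.app (op (pU 𝔜 r W))).hom := by
  classical
  haveI : ∀ n, IsLocallyNoetherian (𝔜.X n) := hY.2.2
  let N : Y.Modules := Nq f F q
  haveI : Coh.IsQCoh N := hN.1
  let U := pU 𝔜 r W
  let 𝔐 := pullSys 𝔜 r hr N
  have hU : IsAffineOpen U := isAffineOpen_pU 𝔜 r hW
  have h𝔐 : 𝔐.IsCoh := isCoh_pullSys 𝔜 r hr N hN
  have h𝔉 : FSch.IsCohF 𝔛 hX.1 (compl hX p hp F) := isCohF_pull 𝔛 p hp F hX hF
  obtain ⟨hK, hL₀⟩ := sect_spec f φ hX hY p hp r hr hsq F q hF hφ hcl hcut hW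
  let Ψ := (ΨT f φ hX hY p hp r hr hsq F q γ eY)
  let G := γs φ hX hY r hr q γ
  let S : Γ(N, W) → SF 𝔜 hY.1 ((RQ hX hY φ q).obj (compl hX p hp F)) U := fun m =>
    G (compl hX p hp F) W (φS f φ hX hY p hp r hr hsq F q W m)
  have hrS : ∀ k m, rmap hX hY φ q (πk hX (compl hX p hp F) k) U (S m) =
      G (Gk hX (compl hX p hp F) k) W
        (rmap hX hY φ q (πk hX (compl hX p hp F) k) U (φS f φ hX hY p hp r hr hsq F q W m)) := fun k m =>
    rmap_γs φ hX hY r hr q γ _ W _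
  have hL : ∀ y, ∀ l, ∃ m, rmap hX hY φ q (πk hX (compl hX p hp F) l) U (S m) =
      rmap hX hY φ q (πk hX (compl hX p hp F) l) U y := by
    intro y l
    obtain ⟨y', rfl⟩ := (γs_bijective φ hX hY r hr q γ (compl hX p hp F) W).2 y
    obtain ⟨m, hm⟩ := hL₀ y' l
    exact ⟨m, (hrS l m).trans ((congrArg (G _ W) hm).trans (rmap_γs φ hX hY r hr q γ _ W y').symm)⟩
  have hkey : ∀ (k : ℕ) (x : RM 𝔜 hY.1 𝔐 U) (m : Γ(N, W)),
      pW 𝔜 hY.1 r hr N k W m = qM 𝔜 hY.1 𝔐 k U x →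
      rmap hX hY φ q (πk hX (compl hX p hp F) k) U ((Ψ.val.app (op U)).hom x) =
        rmap hX hY φ q (πk hX (compl hX p hp F) k) U (S m) := by
    intro k x m hm
    have hd : x - eta 𝔜 hY.1 r hr N eY W m ∈
        J 𝔜 hY.1 U ^ (k + 1) • (⊤ : Submodule (O 𝔜 hY.1 U) (RM 𝔜 hY.1 𝔐 U)) := by
      refine (((RM_spec 𝔜 𝔐 hY h𝔐 hU).2 k).2 _).1 ?_
      rw [map_sub, qM_eta 𝔜 hY.1 r hr N eY heY k W m, hm, sub_self]
    have h0 := rmap_eq_zero φ hX hY p hp F q hF hφ Ψ k hU _ hd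
    rw [map_sub, map_sub, sub_eq_zero] at h0
    exact h0.trans (congrArg (rmap hX hY φ q (πk hX (compl hX p hp F) k) U)
      (ΨT_eta f φ hX hY p hp r hr hsq F q γ eY W m))
  choose k₀ hk₀ using hK
  let K : ℕ → ℕ := fun n => n + (Finset.range (n + 2)).sup k₀
  have hKn : ∀ n, n ≤ K n := fun n => Nat.le_add_right _ _
  have hK0 : ∀ n, k₀ (n + 1) ≤ K n := fun n =>
    (Finset.le_sup (f := k₀) (Finset.mem_range.2 (Nat.lt_succ_self _))).trans (Nat.le_add_left _ _)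
  have hKmono : ∀ n, K n ≤ K (n + 1) := fun n => by
    refine add_le_add n.le_succ (Finset.sup_mono ?_)
    intro a ha
    rw [Finset.mem_range] at ha ⊢
    omega
  have hsmall : ∀ n k, K n ≤ k → ∀ m : Γ(N, W),
      rmap hX hY φ q (πk hX (compl hX p hp F) k) U (S m) = 0 →
        pW 𝔜 hY.1 r hr N n W m = 0 := fun n k hk m hm => by
    refine ((pW_spec 𝔜 hY.1 r hr N hcutY hW n).2 m).2 (hk₀ (n + 1) k ((hK0 n).trans hk) m ?_)
    exact (γs_bijective φ hX hY r hr q γ (Gk hX (compl hX p hp F) k) W).1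
      ((hrS k m).symm.trans (hm.trans (γs_zero φ hX hY r hr q γ _ W).symm))
  have hSsub : ∀ m m', S (m - m') = S m - S m' := fun m m' =>
    (congrArg (G _ W) (φS_sub f φ hX hY p hp r hr hsq F q W m m')).trans (γs_sub φ hX hY r hr q γ _ W _ _)
  constructor
  · refine (injective_iff_map_eq_zero _).2 fun x hx => qM_ext 𝔜 hY.1 𝔐 fun n => ?_
    obtain ⟨m, hm⟩ := (pW_spec 𝔜 hY.1 r hr N hcutY hW (K n)).1 (qM 𝔜 hY.1 𝔐 (K n) U x)
    rw [map_zero, ← pW_eq_qM_of_le (hKn n) hm]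
    refine hsmall n (K n) le_rfl m ((hkey (K n) x m hm).symm.trans ?_)
    exact (congrArg (rmap hX hY φ q (πk hX (compl hX p hp F) (K n)) U) hx).trans (map_zero _)
  · intro y
    choose m hm using hL y
    have hle : ∀ {k l : ℕ}, k ≤ l →
        rmap hX hY φ q (πk hX (compl hX p hp F) k) U (S (m l)) =
          rmap hX hY φ q (πk hX (compl hX p hp F) k) U y := fun {k l} hkl => by
      rw [← πk_trG hX (compl hX p hp F) hkl, ← rmap_comp, ← rmap_comp]
      exact congrArg (rmap hX hY φ q (trG hX (compl hX p hp F) hkl) U) (hm l)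
    obtain ⟨x, hx⟩ := exists_qM 𝔜 hY.1 𝔐 (U := U) (fun n => pW 𝔜 hY.1 r hr N n W (m (K n))) fun n => by
      refine (tM_pW 𝔜 hY.1 r hr N n W _).trans ?_
      rw [← sub_eq_zero, ← pW_sub]
      refine hsmall n (K n) le_rfl _ ?_
      rw [hSsub, map_sub, hle (hKmono n), hle le_rfl, sub_self]
    refine ⟨x, sub_eq_zero.1 ((sect_lim hX hY φ (compl hX p hp F) h𝔉 hφ q hU).1 _ fun n => ?_)⟩
    rw [map_sub, hkey n x (m (K n)) (hx n).symm, hle (hKn n), sub_self]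

include hsq hF hφ hcl hcut hcutY hN in
omit eY in
/-- The twisted base change map of a coherent module is an isomorphism. -/
theorem isIso_mate_twist :
    IsIso (((kap 𝔜 hY.1 r hr).adj.homEquiv _ _).symm
      (φR f φ hX hY p hp r hr hsq F q ≫ γ.hom.app (compl hX p hp F))) := by
  obtain ⟨eY, heY⟩ := exists_pull_iso_pullSys 𝔜 r hr (show Y.Modules from Nq f F q) hY hN
  let Ψ := ΨT f φ hX hY p hp r hr hsq F q γ eY
  have hb : ∀ U ∈ {U : Opens (𝔜.X 0) | ∃ W : Y.Opens, IsAffineOpen W ∧ U = pU 𝔜 r W},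
      Function.Bijective (Ψ.val.app (op U)).hom := by
    rintro _ ⟨W, hW, rfl⟩
    exact bijective_ΨT f φ hX hY p hp r hr hsq F q γ hF hφ hcl hcut hcutY hN eY heY hW
  haveI := mono_of_injective_basis (isBasis_pU 𝔜 r) Ψ fun U hU => (hb U hU).1
  haveI := epi_of_surjective_basis (isBasis_pU 𝔜 r) Ψ fun U hU => (hb U hU).2
  haveI : IsIso Ψ := isIso_of_mono_of_epi _
  exact IsIso.of_isIso_comp_left eY.inv _

variable (β : (kap 𝔛 hX.1 p hp).push ⋙ (ModSite.RMor.ofScheme f).Rpush q ≅ tgtF φ hX hY r hr q)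

include hsq hF hφ hcl hcut hcutY hN in
omit eY γ in
/-- The mate of the unit followed by any natural isomorphism of the two composite functors is an isomorphism. -/
theorem isIso_mate [EnoughInjectives (FSch.ModF 𝔜 hY.1)] [PreservesFiniteColimits (kap 𝔜 hY.1 r hr).push] :
    IsIso (((kap 𝔜 hY.1 r hr).adj.homEquiv _ _).symm
      (((ModSite.RMor.ofScheme f).Rpush q).map ((kap 𝔛 hX.1 p hp).adj.unit.app F) ≫
        β.hom.app (compl hX p hp F))) := by
  haveI := isIso_cmpR f φ hX hY p hp r hr hsq q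
  let γ := (asIso (cmpR f φ hX.1 hY.1 p hp r hr hsq q)).symm ≪≫ β
  have h := isIso_mate_twist f φ hX hY p hp r hr hsq F q γ hF hφ hcl hcut hcutY hN
  have e : φR f φ hX hY p hp r hr hsq F q ≫ γ.hom.app (compl hX p hp F) =
      ((ModSite.RMor.ofScheme f).Rpush q).map ((kap 𝔛 hX.1 p hp).adj.unit.app F) ≫
        β.hom.app (compl hX p hp F) := by
    simp [γ, φR]
  rwa [e] at h

end

end Groth.L17.DerBC
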