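import Groth.Agent.L17.DerBC.LocalStable
import Groth.Agent.L17.IndRpush.RpushBound
import Groth.Agent.L17.IndRpush.WeakSerre
import Groth.Agent.L17.IndRpush.Tilde.Stalk

/-!
# Truncation stability of formal derived direct images, stalk by stalk
-/

set_option autoImplicit false
set_option linter.style.haveILetI false
set_option linter.unusedSectionVars false
set_option backward.defeqAttrib.useBackward true
set_option backward.isDefEq.respectTransparency false
set_option backward.isDefEq.respectTransparency.types false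

universe u

open CategoryTheory CategoryTheory.Limits AlgebraicGeometry TopologicalSpace Opposite DerivedCategory

attribute [local instance] HasDerivedCategory.standard

noncomputable section

namespace Groth.L17.DerBC

open Groth.L17.FSheaf Groth.L17.RpushSect Groth.L17.IndRpush Groth.L17.Tilde
open Groth.L10 (SiteCover.sec SiteCover.sec_comp SiteCover.P)

section Stalk

variable {Y : TopCat.{u}} (O : Sheaf (Opens.grothendieckTopology Y) CommRingCat.{u})

/-- A morphism is bijective on a stalk if kernel and cokernel have no sections on small opens. -/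
theorem isIso_stAb_map_of_tests {M N : ModSite.Mod O} (f : M ⟶ N) {B : Set (Opens Y)} (hB : Opens.IsBasis B)
    (W : Opens Y) (x : Y) (hx : x ∈ W)
    (h1 : ∀ V ∈ B, V ≤ W → ∀ u : SiteCover.P O V ⟶ M, u ≫ f = 0 → u = 0)
    (h2 : ∀ V ∈ B, V ≤ W → ∀ u : SiteCover.P O V ⟶ N, u ≫ cokernel.π f = 0) :
    IsIso ((stAb O x).map f) := by
  have small : ∀ {U : Opens Y}, x ∈ U → ∃ V ∈ B, x ∈ V ∧ V ≤ U ∧ V ≤ W := fun {U} hU => by
    obtain ⟨V, hV, hxV, hle⟩ := Opens.isBasis_iff_nbhd.1 hB (show x ∈ U ⊓ W from ⟨hU, hx⟩)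
    exact ⟨V, hV, hxV, hle.trans inf_le_left, hle.trans inf_le_right⟩
  haveI := preservesFiniteLimits_stAb O x
  haveI := additive_stAb O x
  haveI := preservesColimits_stAb O x
  haveI : PreservesFiniteColimits (stAb O x) := PreservesColimitsOfSize.preservesFiniteColimits _
  rw [ConcreteCategory.isIso_iff_bijective]
  refine ⟨(injective_iff_map_eq_zero _).2 fun z hz => ?_, fun z => ?_⟩
  · obtain ⟨U, hU, s, rfl⟩ := TopCat.Presheaf.exists_germ_eq (pre O M).presheaf z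
    rw [stAb_germ] at hz
    obtain ⟨U', hU', i₁, i₂, hz'⟩ := TopCat.Presheaf.germ_eq (pre O N).presheaf x hU hU _ 0 (hz.trans (map_zero _).symm)
    obtain ⟨V, hV, hxV, hVU', hVW⟩ := small hU'
    let s' : M.val.obj (op V) := Groth.L17.FSheaf.res (R := ModSite.ringSh O) M (hVU'.trans (leOfHom i₁)) s
    have hs' : f.val.app (op V) s' = 0 := by
      refine (PresheafOfModules.naturality_apply f.val (homOfLE (hVU'.trans (leOfHom i₁))).op s).trans ?_
      refine (Groth.L17.FSheaf.res_res (R := ModSite.ringSh O) N (leOfHom i₁) hVU' _).symm.trans ?_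
      exact (congrArg _ (hz'.trans (map_zero _))).trans (map_zero _)
    have hu : (SiteCover.sec O V M).symm s' ≫ f = 0 := by
      apply (SiteCover.sec O V N).injective
      rw [SiteCover.sec_comp, Equiv.apply_symm_apply]
      refine hs'.trans ?_
      have h0 : SiteCover.sec O V N (0 : SiteCover.P O V ⟶ N) = 0 := by
        rw [← comp_zero (f := (0 : SiteCover.P O V ⟶ M)) (Z := N), SiteCover.sec_comp, Functor.map_zero]
        rfl
      exact h0.symm
    have h3 := congrArg (SiteCover.sec O V M) (h1 V hV hVW _ hu)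
    rw [Equiv.apply_symm_apply] at h3
    have h0 : SiteCover.sec O V M (0 : SiteCover.P O V ⟶ M) = 0 := by
      rw [← comp_zero (f := (0 : SiteCover.P O V ⟶ M)) (Z := M), SiteCover.sec_comp, Functor.map_zero]
      rfl
    have h4 : s' = 0 := h3.trans h0
    refine (TopCat.Presheaf.germ_res_apply (pre O M).presheaf (homOfLE (hVU'.trans (leOfHom i₁))) x hxV s).symm.trans ?_
    exact (congrArg _ h4).trans (map_zero _)
  · obtain ⟨U, hU, s, rfl⟩ := TopCat.Presheaf.exists_germ_eq (pre O N).presheaf z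
    obtain ⟨V, hV, hxV, hVU, hVW⟩ := small hU
    let s' : N.val.obj (op V) := Groth.L17.FSheaf.res (R := ModSite.ringSh O) N hVU s
    have h5 := congrArg (SiteCover.sec O V (cokernel f)) (h2 V hV hVW ((SiteCover.sec O V N).symm s'))
    rw [SiteCover.sec_comp, Equiv.apply_symm_apply] at h5
    have h6 : SiteCover.sec O V (cokernel f) (0 : SiteCover.P O V ⟶ cokernel f) = 0 := by
      rw [← comp_zero (f := (0 : SiteCover.P O V ⟶ N)) (Z := cokernel f), SiteCover.sec_comp, Functor.map_zero]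
      rfl
    have h7 : (cokernel.π f).val.app (op V) s' = 0 := h5.trans h6
    have h8 : (stAb O x).map (cokernel.π f) (TopCat.Presheaf.germ (pre O N).presheaf U x hU s) = 0 := by
      rw [← TopCat.Presheaf.germ_res_apply (pre O N).presheaf (homOfLE hVU) x hxV s]
      exact (stAb_germ O x (cokernel.π f) hxV s').trans ((congrArg _ h7).trans (map_zero _))
    exact (ShortComplex.ab_exact_iff _).1 (((ShortComplex.mk f (cokernel.π f) (cokernel.condition f)).exact_of_g_is_cokernel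
      (cokernelIsCokernel f)).map (stAb O x)) _ h8

/-- Stalks on an open detect sections over it. -/
theorem detects_stalks (W : Opens Y) :
    Detects (fun y : (W : Set Y) => stAb O y.1) (SiteCover.P O W) := by
  intro M hM a
  apply (SiteCover.sec O W M).injective
  refine TopCat.Presheaf.section_ext ⟨M.val.presheaf, M.isSheaf⟩ W _ _ fun y hy => ?_
  haveI := AddCommGrpCat.subsingleton_of_isZero (hM ⟨y, hy⟩)
  exact Subsingleton.elim (α := (stAb O y).obj M) _ _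

end Stalk

variable {𝔛 𝔜 : FSch.Sys.{u}} (hX : 𝔛.IsLocNoethFormal) (h𝔜 : 𝔜.IsFormal) (f : 𝔛 ⟶ 𝔜)
  (hc : ∀ V : (𝔜.X 0).Opens, IsAffineOpen V → IsCompact ((f : FSch.Hom 𝔛 𝔜).app 0 ⁻¹ᵁ V : Set (𝔛.X 0)))

include hc in
/-- Truncations are stable on stalks, with a bound depending on the point. -/
theorem exists_isIso_stAb_H_π [SiteCmp.HasRpushD (fm hX h𝔜 f)] [HasInjectiveResolutions (FSch.ModF 𝔛 hX.1)]
    (G : DerivedCategory (FSch.ModF 𝔛 hX.1)) (hG : ∀ i : ℤ, ind hX (SiteCmp.HMod G i)) (x : 𝔜.X 0) :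
    ∃ N : ℕ, ∀ (n : ℕ) (j : ℤ), (N : ℤ) - (n : ℤ) ≤ j → IsIso ((stAb (𝔜.Osh h𝔜) x).map
      ((homologyFunctor (FSch.ModF 𝔜 h𝔜) j).map
        ((SiteCmp.RpushD (fm hX h𝔜 f)).map ((DerivedCategory.TStructure.t.truncGEπ (-(n : ℤ))).app G)))) := by
  let g := (f : FSch.Hom 𝔛 𝔜).app 0
  let φ := fm hX h𝔜 f
  obtain ⟨W, hW, hxW, -⟩ := Opens.isBasis_iff_nbhd.1 (𝔜.X 0).isBasis_affineOpens (Opens.mem_top x)
  obtain ⟨N, hN⟩ := exists_bound_ind hX (U := g ⁻¹ᵁ W) (hc W hW)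
  refine ⟨N, fun n j hj => ?_⟩
  obtain ⟨_, _, _⟩ := Groth.L10.ModRDer.insts (𝔛.Osh hX.1)
  obtain ⟨_, _, _⟩ := Groth.L10.ModRDer.insts (𝔜.Osh h𝔜)
  have cov : ∀ (Z : Scheme.{u}) (U : Z.Opens), ∃ (ι : Type u) (Y : ι → Z.Opens) (k : ∀ i, Y i ⟶ U),
      Sieve.ofArrows Y k ∈ Opens.grothendieckTopology Z U ∧ ∀ i, Y i ∈ Z.affineOpens := fun Z U => by
    refine ⟨{W : Z.Opens // IsAffineOpen W ∧ W ≤ U}, fun W => W.1, fun W => homOfLE W.2.2, fun x hx => ?_, fun W => W.2.1⟩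
    obtain ⟨W, hW, hxW, hWU⟩ := exists_isAffineOpen_mem_and_subset hx
    exact ⟨W, homOfLE hWU, (Sieve.mem_ofArrows_iff _ _ _).2 ⟨⟨W, hW, hWU⟩, 𝟙 _, Subsingleton.elim _ _⟩, hxW⟩
  have refn : ∀ (Z : Scheme.{u}) (V : Z.Opens) (T : Sieve V), T ∈ Opens.grothendieckTopology Z V →
      ∃ (ι : Type u) (Y : ι → Z.Opens) (k : ∀ i, Y i ⟶ V), (∀ i, T.arrows (k i)) ∧
        Sieve.ofArrows Y k ∈ Opens.grothendieckTopology Z V ∧ ∀ i, IsAffineOpen (Y i) := fun Z V T hT => by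
    refine ⟨{W : Z.Opens // IsAffineOpen W ∧ ∃ h : W ⟶ V, T.arrows h}, Subtype.val, fun W => W.2.2.choose,
      fun W => W.2.2.choose_spec, fun x hx => ?_, fun W => W.2.1⟩
    obtain ⟨W', h, hT', hxW⟩ := hT x hx
    obtain ⟨W, hW, hxW', hWW'⟩ := exists_isAffineOpen_mem_and_subset hxW
    let k : W ⟶ W' := homOfLE hWW'
    exact ⟨W, k ≫ h, (Sieve.mem_ofArrows_iff _ _ _).2
      ⟨⟨W, hW, ⟨k ≫ h, T.downward_closed hT' k⟩⟩, 𝟙 _, Subsingleton.elim _ _⟩, hxW'⟩
  choose d hd using fun V : (𝔜.X 0).affineOpens => exists_bound_ind hX (U := g ⁻¹ᵁ V.1) (hc V.1 V.2)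
  let 𝒞A := Groth.L10.SiteCover.cover (𝔛.Osh hX.1) (𝔛.X 0).affineOpens (cov _)
    (fun _ => {U | ∀ F : FSch.ModF 𝔛 hX.1, ind hX F → ∀ k : ℕ, 0 < k → Subsingleton (ModSite.HU (𝔛.Osh hX.1) F k U)})
    (fun V T hT => by
      obtain ⟨ι, Y, k, h1, h2, h3⟩ := refn _ V.1 T hT
      refine ⟨ι, Y, k, h1, h2, fun i F hF p hp => ?_⟩
      obtain ⟨m, rfl⟩ : ∃ m, p = m + 1 := ⟨p - 1, by omega⟩
      exact subsingleton_of_forall_eq 0 (acyclicOn_ind hX hF (Y i) (h3 i) m))
  let 𝒞B := Groth.L10.SiteCover.cover (𝔜.Osh h𝔜) (𝔜.X 0).affineOpens (cov _)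
    (fun V => {U | ∀ F : FSch.ModF 𝔛 hX.1, ind hX F → ∀ k : ℕ, d V < k →
      Subsingleton (ModSite.HU (𝔛.Osh hX.1) F k (φ.fn.obj U))})
    (fun V T hT => by
      obtain ⟨ι, Y, k, h1, h2, h3⟩ := refn _ V.1 T hT
      refine ⟨ι, Y, k, h1, h2, fun i F hF p hp => ?_⟩
      exact subsingleton_of_forall_eq 0 (hd V (g ⁻¹ᵁ Y i) (g.preimage_mono (leOfHom (k i)))
        (affOn_preimage g V.2 (h3 i) (leOfHom (k i))) F hF p (le_of_lt hp)))
  let α := (SiteCmp.pushKh φ).totalRightDerivedUnit DerivedCategory.Qh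
    (HomotopyCategory.quasiIso (FSch.ModF 𝔛 hX.1) (ComplexShape.up ℤ))
  have hloc : Groth.L10.TowerStab.LocBounded 𝒞A G := by
    rintro ⟨V, hV⟩
    refine ⟨0, ?_⟩
    rintro _ ⟨U, hU, rfl⟩ a
    exact Groth.L10.SiteCover.small_of_HU _ U _ _ (hU _ (hG a))
  have key : ∀ (V : (𝔜.X 0).Opens) (hV : IsAffineOpen V), V ≤ W → _ := fun V hV hVW =>
    haveI : ∀ y : (V : Set (𝔜.X 0)), PreservesFiniteLimits (stAb (𝔜.Osh h𝔜) y.1) :=
      fun y => preservesFiniteLimits_stAb _ _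
    haveI : ∀ y : (V : Set (𝔜.X 0)), PreservesFiniteColimits (stAb (𝔜.Osh h𝔜) y.1) := fun y =>
      haveI := preservesColimits_stAb (𝔜.Osh h𝔜) y.1
      PreservesColimitsOfSize.preservesFiniteColimits _
    haveI : ∀ y : (V : Set (𝔜.X 0)), (stAb (𝔜.Osh h𝔜) y.1).Additive := fun y => additive_stAb _ _
    exists_stable_at α G φ.adj (fun M => Groth.L10.ModAcyc.enough (𝔜.Osh h𝔜) φ M) hloc 𝒞B ⟨V, hV⟩
      (detects_stalks (𝔜.Osh h𝔜) V) (d ⟨V, hV⟩) (by
        rintro _ ⟨U, hU, rfl⟩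
        exact Groth.L10.RDerBound.stab_of_small_left α G φ.adj (fun M => Groth.L10.ModAcyc.enough (𝔜.Osh h𝔜) φ M)
          (Groth.L10.ModAcyc.acyc_free (𝔜.Osh h𝔜) φ _)
          fun a => Groth.L10.ModRDer.small_of_iso (Groth.L10.ModRDer.pullIso φ U)
            (Groth.L10.SiteCover.small_of_HU _ _ _ _ (hU _ (hG a)))) N (by
        rintro ⟨y, hy⟩ a p hp
        rw [AddCommGrpCat.isZero_iff_subsingleton]
        refine subsingleton_of_forall_eq 0 fun z => ?_
        obtain ⟨U, hyU, s, rfl⟩ := TopCat.Presheaf.exists_germ_eq (pre (𝔜.Osh h𝔜) _).presheaf z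
        obtain ⟨U₁, hU₁, hyU₁, hle₁⟩ := Opens.isBasis_iff_nbhd.1 (𝔜.X 0).isBasis_affineOpens
          (show y ∈ U ⊓ W from ⟨hyU, hVW hy⟩)
        let s₁ := Groth.L17.FSheaf.res (R := ModSite.ringSh (𝔜.Osh h𝔜)) _ (hle₁.trans inf_le_left) s
        obtain ⟨U₂, hU₂, hy₂, q, hq⟩ := exists_local_preimage φ p (SiteCmp.HMod G a) s₁ y hyU₁
        obtain ⟨U₃, hU₃, hy₃, hle₃⟩ := Opens.isBasis_iff_nbhd.1 (𝔜.X 0).isBasis_affineOpens hy₂
        have hW₃ : U₃ ≤ W := hle₃.trans (hU₂.trans (hle₁.trans inf_le_right))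
        have h0 : (puRes φ p hle₃).app _ q = 0 := (puEquiv φ p U₃ _).injective
          ((hN (g ⁻¹ᵁ U₃) (g.preimage_mono hW₃) (affOn_preimage g hW hU₃ hW₃) _ (hG a) p hp.le _).trans
            (map_zero _).symm)
        have h1 := ΦV_res φ p hle₃ (SiteCmp.HMod G a) q
        rw [h0, map_zero, hq] at h1
        have h2 := (Groth.L17.FSheaf.res_res (R := ModSite.ringSh (𝔜.Osh h𝔜)) _ (hle₁.trans inf_le_left)
          (hle₃.trans hU₂) s)
        rw [← TopCat.Presheaf.germ_res_apply (pre (𝔜.Osh h𝔜) _).presheaf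
          (homOfLE ((hle₃.trans hU₂).trans (hle₁.trans inf_le_left))) y hy₃ s]
        refine (congrArg _ ?_).trans (map_zero _)
        exact h2.symm.trans ((Groth.L17.FSheaf.res_res (R := ModSite.ringSh (𝔜.Osh h𝔜)) _ hU₂ hle₃ s₁).symm.trans h1.symm)) j n hj
  exact isIso_stAb_map_of_tests (𝔜.Osh h𝔜) _ (𝔜.X 0).isBasis_affineOpens W x hxW
    (fun V hV hVW => (key V hV hVW).1) (fun V hV hVW => (key V hV hVW).2)

end Groth.L17.DerBC
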