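import Groth.Agent.L17.DerBC.OnQCoh
import Groth.Agent.L17.DerBC.FormalStable
import Groth.Agent.L29.DCoh.QCohColim
import Groth.Agent.L29.DCoh.RpushQCoh
import Groth.Agent.L10.RDerTri

/-!
# Completion commutes with the unbounded derived direct image of a proper morphism
-/

set_option autoImplicit false
set_option linter.style.haveILetI false
set_option linter.unusedSectionVars false
set_option backward.defeqAttrib.useBackward true
set_option backward.isDefEq.respectTransparency false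
set_option backward.isDefEq.respectTransparency.types false

universe u

open CategoryTheory CategoryTheory.Limits CategoryTheory.Pretriangulated AlgebraicGeometry TopologicalSpace Opposite
open DerivedCategory

attribute [local instance] HasDerivedCategory.standard

noncomputable section

/-- shortcut instance -/
local instance (priority := 10000) abModSDerBC {C : Type u} [SmallCategory C] {J : GrothendieckTopology C}
    (O : Sheaf J CommRingCat.{u}) : Abelian (ModSite.Mod O) :=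
  inferInstance

namespace Groth.L17.DerBC

open Groth.L17.FSheaf Groth.L17.FSheaf.RpushComp Groth.L17.Tilde
open Groth.L10 (DerivedAdj.isGE_map RDerBound.isGE_obj RDerTri.exists_triangle isZero_H_GE isIso_H_π)

local notation "tt" => DerivedCategory.TStructure.t

/-- A morphism of the derived category with bijective cohomology maps is an isomorphism. -/
theorem isIso_of_homology {A : Type*} [Category A] [Abelian A] [HasDerivedCategory A] {K L : DerivedCategory A}
    (u : K ⟶ L) (h : ∀ i, IsIso ((homologyFunctor A i).map u)) : IsIso u := by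
  obtain ⟨Z, v, w, hT⟩ := Pretriangulated.distinguished_cocone_triangle u
  let T := Triangle.mk u v w
  have hz : ∀ i, IsZero ((homologyFunctor A i).obj Z) := fun i => by
    have e1 := h i
    have e2 := h (i + 1)
    have h2 : (homologyFunctor A i).map v = 0 := by
      rw [← cancel_epi ((homologyFunctor A i).map u), ← Functor.map_comp, comp_zero]
      exact (congrArg _ (comp_distTriang_mor_zero₁₂ T hT)).trans (Functor.map_zero _ _ _)
    have h3 : HomologySequence.δ T i (i + 1) rfl = 0 := by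
      rw [← cancel_mono ((homologyFunctor A (i + 1)).map u), zero_comp]
      exact HomologySequence.δ_comp T hT i (i + 1) rfl
    exact (HomologySequence.exact₃ T hT i (i + 1) rfl).isZero_of_both_zeros h2 h3
  have hge : Z.IsGE 0 := (DerivedCategory.isGE_iff _ _).2 fun i _ => hz i
  have hle : Z.IsLE (-1) := (DerivedCategory.isLE_iff _ _).2 fun i _ => hz i
  exact (Triangle.isZero₃_iff_isIso₁ T hT).1 ((tt).isZero Z (-1) 0 (by omega))

/-- A morphism of modules on a ringed space bijective on all stalks is an isomorphism. -/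
theorem isIso_of_forall_stAb {T : TopCat.{u}} (O : Sheaf (Opens.grothendieckTopology T) CommRingCat.{u})
    {M N : ModSite.Mod O} (g : M ⟶ N) (h : ∀ x, IsIso ((stAb O x).map g)) : IsIso g := by
  let F := SheafOfModules.toSheaf.{u} (ModSite.ringSh O)
  haveI : IsGrothendieckAbelian.{u} (ModSite.Mod O) := Groth.L10.shMod_isGrothendieckAbelian _
  haveI : F.Faithful := inferInstanceAs (SheafOfModules.toSheaf.{u} _).Faithful
  haveI : Balanced (ModSite.Mod O) := inferInstance
  haveI : F.ReflectsIsomorphisms := inferInstance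
  haveI : ∀ x : T, IsIso ((TopCat.Presheaf.stalkFunctor AddCommGrpCat.{u} x).map (F.map g).hom) := h
  haveI : IsIso (F.map g) :=
    TopCat.Presheaf.isIso_of_stalkFunctor_map_iso (X := T) (C := AddCommGrpCat.{u}) (F.map g)
  exact isIso_of_reflects_iso g F

variable {X Y : Scheme.{u}} (f : X ⟶ Y) {𝔛 𝔜 : FSch.Sys.{u}} (φ : 𝔛 ⟶ 𝔜) (hX : 𝔛.IsLocNoethFormal)
  (hY : 𝔜.IsLocNoethFormal) (p : ∀ k, 𝔛.X k ⟶ X) (hp : ∀ k, 𝔛.ι k ≫ p (k + 1) = p k)
  (r : ∀ k, 𝔜.X k ⟶ Y) (hr : ∀ k, 𝔜.ι k ≫ r (k + 1) = r k)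
  (hsq : ∀ n, p n ≫ f = (φ : FSch.Hom 𝔛 𝔜).app n ≫ r n)
  [PreservesFiniteLimits (kap 𝔛 hX.1 p hp).pull] [PreservesFiniteLimits (kap 𝔜 hY.1 r hr).pull]
  [PreservesFiniteColimits (kap 𝔛 hX.1 p hp).push] [PreservesFiniteColimits (kap 𝔜 hY.1 r hr).push]
  [SiteCmp.HasRpushD (ModSite.RMor.ofScheme f)] [SiteCmp.HasRpushD (FSch.homMor φ hX.1 hY.1)]
  [IsLocallyNoetherian X] [IsLocallyNoetherian Y] [IsProper f] (hφ : FSch.IsProperHom φ)
  [IsClosedImmersion (p 0)] [IsClosedImmersion (r 0)]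
  (hcl : ∀ k, IsClosedImmersion (p k)) {𝓘 : Y.IdealSheafData}
  (hcut : CutBy 𝔛 p (𝓘.comap f)) (hcutY : CutBy 𝔜 r 𝓘)

omit [IsProper f] in
theorem hExact_lhs : HExact (lhs f hY r hr) := by
  obtain ⟨_, _, _⟩ := Groth.L10.ModRDer.insts X.sheaf
  refine hExact_of_triangle _ fun T hT => ?_
  obtain ⟨δ, hδ⟩ := RDerTri.exists_triangle (αS f) T hT
  exact ⟨_, (kap 𝔜 hY.1 r hr).pull.mapDerivedCategory.map_distinguished _ hδ⟩

omit [IsProper f] in
theorem hExact_rhs : HExact (rhs φ hX hY p hp) := by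
  obtain ⟨_, _, _⟩ := Groth.L10.ModRDer.insts (𝔛.Osh hX.1)
  exact hExact_of_triangle _ fun T hT => RDerTri.exists_triangle (αT φ hX hY) _
    ((kap 𝔛 hX.1 p hp).pull.mapDerivedCategory.map_distinguished T hT)

include hsq hφ hcl hcut hcutY in
/-- Base change for a completion, on bounded below objects with quasi-coherent cohomology. -/
theorem isIso_H_bcC_of_isGE (a : ℤ) (E : DerivedCategory (ModSite.Mod X.sheaf)) [E.IsGE a]
    (hE : ∀ i : ℤ, Coh.IsQCoh (X := X) (SiteCmp.HMod E i)) (i : ℤ) :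
    IsIso ((homologyFunctor (FSch.ModF 𝔜 hY.1) i).map ((bcC f φ hX hY p hp r hr hsq).app E)) := by
  obtain ⟨_, _, _⟩ := Groth.L10.ModRDer.insts X.sheaf
  obtain ⟨_, _, _⟩ := Groth.L10.ModRDer.insts (𝔛.Osh hX.1)
  haveI : @WSerre.IsWeakSerre (ModSite.Mod X.sheaf) _ _ (QP X) := Groth.L29.DC.RpushQC.isWeakSerre_qcoh X
  haveI : (QP X).IsClosedUnderIsomorphisms := ⟨fun e h => Groth.L29.DC.isQCoh_of_iso' (X := X) e h⟩
  refine isIso_of_isGE (bcC f φ hX hY p hp r hr hsq) (QP X) (hExact_lhs f hY r hr) (hExact_rhs φ hX hY p hp)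
    (onSingles f φ hX hY p hp r hr hsq hφ hcl hcut hcutY) (fun G n hG => ?_) (fun G n hG => ?_) a E ‹_› hE i
  · haveI := RDerBound.isGE_obj (αS f) G n
    exact DerivedAdj.isGE_map (w := (kap 𝔜 hY.1 r hr).pull) ((SiteCmp.RpushD (ModSite.RMor.ofScheme f)).obj G) n
  · haveI := DerivedAdj.isGE_map (w := (kap 𝔛 hX.1 p hp).pull) G n
    exact RDerBound.isGE_obj (αT φ hX hY) ((SiteCmp.pullD (kap 𝔛 hX.1 p hp)).obj G) n

include hsq hφ hcl hcut hcutY in
/-- Base change for a completion is an isomorphism. -/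
theorem isIso_bcC (E : DerivedCategory (ModSite.Mod X.sheaf))
    (hE : ∀ i : ℤ, Coh.IsQCoh (X := X) (SiteCmp.HMod E i)) :
    IsIso ((bcC f φ hX hY p hp r hr hsq).app E) := by
  obtain ⟨_, _, _⟩ := Groth.L10.ModRDer.insts (𝔛.Osh hX.1)
  haveI : DCoh.HasRpush f := ‹SiteCmp.HasRpushD (ModSite.RMor.ofScheme f)›
  let τ := bcC f φ hX hY p hp r hr hsq
  refine isIso_of_homology _ fun j => isIso_of_forall_stAb _ _ fun x => ?_
  obtain ⟨_, ⟨(V : Y.Opens), hV, rfl⟩, hxV, -⟩ :=
    Y.isBasis_affineOpens.exists_subset_of_mem_open (Set.mem_univ (r 0 x)) isOpen_univ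
  obtain ⟨N₁, hN₁⟩ := Groth.L29.DC.RpushQC.exists_bound_isIso_res f ⟨V, hV⟩
  let DX := SiteCmp.pullD (kap 𝔛 hX.1 p hp)
  let RG := SiteCmp.RpushD (FSch.homMor φ hX.1 hY.1)
  obtain ⟨N₂, hN₂⟩ := exists_isIso_stAb_H_π hX hY.1 φ (isCompact_preimage_of_isProperHom φ hφ) (DX.obj E)
    (cohIn_pull_ind hX p hp E hE) x
  obtain ⟨n, hn₁, hn₂⟩ : ∃ n : ℕ, (N₁ : ℤ) - n ≤ j ∧ (N₂ : ℤ) - n ≤ j :=
    ⟨((N₁ : ℤ) - j).toNat + ((N₂ : ℤ) - j).toNat, by omega, by omega⟩
  let π := ((tt).truncGEπ (-(n : ℤ))).app E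
  let En := ((tt).truncGE (-(n : ℤ))).obj E
  have hπ : ∀ i : ℤ, -(n : ℤ) ≤ i → IsIso ((homologyFunctor (ModSite.Mod X.sheaf) i).map π) :=
    fun i hi => isIso_H_π _ i hi E
  have hEn : ∀ i : ℤ, Coh.IsQCoh (X := X) (SiteCmp.HMod En i) := fun i => by
    by_cases hi : -(n : ℤ) ≤ i
    · haveI := hπ i hi
      exact Groth.L29.DC.isQCoh_of_iso' (X := X) (asIso ((homologyFunctor (ModSite.Mod X.sheaf) i).map π)) (hE i)
    · exact Groth.L29.DC.isQCoh_of_isZero (X := X) (isZero_H_GE _ i (by omega) E)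
  let S := stAb (𝔜.Osh hY.1) x
  let H := homologyFunctor (FSch.ModF 𝔜 hY.1) j
  have h1 : IsIso (S.map (H.map ((lhs f hY r hr).map π))) := by
    let LY := (kap 𝔜 hY.1 r hr).pull
    let g := (homologyFunctor (ModSite.Mod Y.sheaf) j).map ((SiteCmp.RpushD (ModSite.RMor.ofScheme f)).map π)
    have hg : IsIso (S.map (LY.map g)) := isIso_stAb_pull_map hY r hr hcutY
      (Groth.L29.DC.RpushQC.isQCohD_Rpush f E hE j) (Groth.L29.DC.RpushQC.isQCohD_Rpush f En hEn j) g V
      (hN₁ hE hEn π n hπ j hn₁) x hxV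
    exact (NatIso.isIso_map_iff (Functor.isoWhiskerRight (hD LY j) S)
      ((SiteCmp.RpushD (ModSite.RMor.ofScheme f)).map π)).2 hg
  have h2 : IsIso (S.map (H.map ((rhs φ hX hY p hp).map π))) := by
    haveI : En.IsGE (-(n : ℤ)) := inferInstance
    haveI : (tt).IsGE (DX.obj En) (-(n : ℤ)) := DerivedAdj.isGE_map (w := (kap 𝔛 hX.1 p hp).pull) En _
    let v : ((tt).truncGE (-(n : ℤ))).obj (DX.obj E) ⟶ DX.obj En := (tt).descTruncGE (DX.map π) (-(n : ℤ))
    have hv : ((tt).truncGEπ (-(n : ℤ))).app (DX.obj E) ≫ v = DX.map π :=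
      (tt).π_descTruncGE (DX.map π) (-(n : ℤ))
    haveI : IsIso v := isIso_of_homology v fun i => by
      by_cases hi : -(n : ℤ) ≤ i
      · haveI := hπ i hi
        haveI := isIso_H_π (-(n : ℤ)) i hi (DX.obj E)
        have : IsIso ((homologyFunctor (FSch.ModF 𝔛 hX.1) i).map (DX.map π)) :=
          (NatIso.isIso_map_iff (hD (kap 𝔛 hX.1 p hp).pull i) π).2
            (inferInstanceAs (IsIso ((kap 𝔛 hX.1 p hp).pull.map ((homologyFunctor (ModSite.Mod X.sheaf) i).map π))))
        rw [← hv, Functor.map_comp, isIso_comp_left_iff] at this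
        exact this
      · exact ⟨0, (isZero_H_GE _ i (by omega) _).eq_of_src _ _,
          (DerivedCategory.isZero_of_isGE (DX.obj En) (-(n : ℤ)) i (by omega)).eq_of_src _ _⟩
    haveI := hN₂ n j hn₂
    show IsIso (S.map (H.map (RG.map (DX.map π))))
    rw [← hv, Functor.map_comp, Functor.map_comp, Functor.map_comp]
    infer_instance
  haveI h3 : IsIso (H.map (τ.app En)) := isIso_H_bcC_of_isGE f φ hX hY p hp r hr hsq hφ hcl hcut hcutY (-(n : ℤ)) En hEn j
  have hnat : S.map (H.map ((lhs f hY r hr).map π)) ≫ S.map (H.map (τ.app En)) =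
      S.map (H.map (τ.app E)) ≫ S.map (H.map ((rhs φ hX hY p hp).map π)) := by
    rw [← Functor.map_comp, ← Functor.map_comp, ← Functor.map_comp, ← Functor.map_comp, τ.naturality]
    rfl
  haveI := h1
  haveI := h2
  haveI : IsIso (S.map (H.map (τ.app E)) ≫ S.map (H.map ((rhs φ hX hY p hp).map π))) := by
    rw [← hnat]
    infer_instance
  exact IsIso.of_isIso_comp_right _ (S.map (H.map ((rhs φ hX hY p hp).map π)))

end Groth.L17.DerBC
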