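import Groth.Agent.L10.DerTrunc
import Groth.Prelude.Def_WeakSerre
import Mathlib.CategoryTheory.Abelian.DiagramLemmas.Four
import Mathlib.Algebra.Homology.DerivedCategory.HomologySequence

/-!
# Natural transformations of cohomologically exact functors which are isomorphisms on objects in one degree

No compatibility of the transformation with shifts or connecting morphisms is needed.
-/

set_option autoImplicit false
set_option linter.style.haveILetI false
set_option linter.unusedSectionVars false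
set_option backward.defeqAttrib.useBackward true
set_option backward.isDefEq.respectTransparency false
set_option backward.isDefEq.respectTransparency.types false

universe w₁ w₂ v₁ v₂ u₁ u₂

open CategoryTheory CategoryTheory.Limits CategoryTheory.Pretriangulated DerivedCategory

noncomputable section

namespace Groth.L17.DerBC

open Groth.L10

variable {A : Type u₁} [Category.{v₁} A] [Abelian A] [HasDerivedCategory.{w₁} A]
  {B : Type u₂} [Category.{v₂} B] [Abelian B] [HasDerivedCategory.{w₂} B]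

local notation "tt" => DerivedCategory.TStructure.t

/-- Cohomology objects of a functor are exact in the middle of distinguished triangles. -/
def HExact (Φ : DerivedCategory A ⥤ DerivedCategory B) : Prop :=
  ∀ T : Triangle (DerivedCategory A), T ∈ distTriang _ → ∀ i : ℤ,
    ∃ w : (homologyFunctor B i).map (Φ.map T.mor₁) ≫ (homologyFunctor B i).map (Φ.map T.mor₂) = 0,
      (ShortComplex.mk _ _ w).Exact

/-- A functor with triangles going to distinguished triangles is exact in the middle on cohomology. -/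
theorem hExact_of_triangle (Φ : DerivedCategory A ⥤ DerivedCategory B)
    (h : ∀ T : Triangle (DerivedCategory A), T ∈ distTriang _ →
      ∃ δ, Triangle.mk (Φ.map T.mor₁) (Φ.map T.mor₂) δ ∈ distTriang _) : HExact Φ := fun T hT i => by
  obtain ⟨δ, hδ⟩ := h T hT
  refine ⟨?_, HomologySequence.exact₂ _ hδ i⟩
  rw [← Functor.map_comp]
  exact (congrArg _ (comp_distTriang_mor_zero₁₂ _ hδ)).trans (Functor.map_zero _ _ _)

variable {Φ₁ Φ₂ : DerivedCategory A ⥤ DerivedCategory B} (τ : Φ₁ ⟶ Φ₂)

/-- The five lemma for cohomology of exact functors. -/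
theorem isIso_of_triangle (h₁ : HExact Φ₁) (h₂ : HExact Φ₂) (T : Triangle (DerivedCategory A))
    (hT : T ∈ distTriang _) (i : ℤ)
    (e0 : IsIso ((homologyFunctor B i).map (τ.app (T.obj₃⟦(-1 : ℤ)⟧))))
    (e1 : IsIso ((homologyFunctor B i).map (τ.app T.obj₁)))
    (e3 : IsIso ((homologyFunctor B i).map (τ.app T.obj₃)))
    (e4 : IsIso ((homologyFunctor B i).map (τ.app (T.obj₁⟦(1 : ℤ)⟧)))) :
    IsIso ((homologyFunctor B i).map (τ.app T.obj₂)) := by
  let H := homologyFunctor B i
  let R₁ := ComposableArrows.mk₄ (H.map (Φ₁.map T.invRotate.mor₁)) (H.map (Φ₁.map T.mor₁))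
    (H.map (Φ₁.map T.mor₂)) (H.map (Φ₁.map T.mor₃))
  let R₂ := ComposableArrows.mk₄ (H.map (Φ₂.map T.invRotate.mor₁)) (H.map (Φ₂.map T.mor₁))
    (H.map (Φ₂.map T.mor₂)) (H.map (Φ₂.map T.mor₃))
  have nat : ∀ {X Y : DerivedCategory A} (g : X ⟶ Y),
      H.map (Φ₁.map g) ≫ H.map (τ.app Y) = H.map (τ.app X) ≫ H.map (Φ₂.map g) := fun g => by
    rw [← H.map_comp, ← H.map_comp, τ.naturality]
  have ex : ∀ (Φ : DerivedCategory A ⥤ DerivedCategory B), HExact Φ →
      (ComposableArrows.mk₄ (H.map (Φ.map T.invRotate.mor₁)) (H.map (Φ.map T.mor₁))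
        (H.map (Φ.map T.mor₂)) (H.map (Φ.map T.mor₃))).Exact := fun Φ hΦ => by
    obtain ⟨w0, x0⟩ := hΦ T.invRotate (inv_rot_of_distTriang _ hT) i
    obtain ⟨w1, x1⟩ := hΦ T hT i
    obtain ⟨w2, x2⟩ := hΦ T.rotate (rot_of_distTriang _ hT) i
    exact
      { zero := fun j hj =>
          match j with
          | 0 => w0
          | 1 => w1
          | 2 => w2
          | j + 3 => by omega
        exact := fun j hj =>
          match j with
          | 0 => x0
          | 1 => x1
          | 2 => x2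
          | j + 3 => by omega }
  let φ : R₁ ⟶ R₂ := ComposableArrows.homMk₄ (H.map (τ.app T.invRotate.obj₁)) (H.map (τ.app T.obj₁))
    (H.map (τ.app T.obj₂)) (H.map (τ.app T.obj₃)) (H.map (τ.app (T.obj₁⟦(1 : ℤ)⟧)))
    (nat _) (nat _) (nat _) (nat _)
  exact Abelian.isIso_of_epi_of_isIso_of_isIso_of_mono (φ := φ) (ex Φ₁ h₁) (ex Φ₂ h₂)
    (haveI := e0; (inferInstance : Epi (H.map (τ.app (T.obj₃⟦(-1 : ℤ)⟧))))) e1 e3
    (haveI := e4; (inferInstance : Mono (H.map (τ.app (T.obj₁⟦(1 : ℤ)⟧)))))

variable (P : ObjectProperty A) [P.IsClosedUnderIsomorphisms] [P.ContainsZero]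

/-- The hypothesis on objects in one degree. -/
def OnSingles : Prop :=
  ∀ (M : A), P M → ∀ n i : ℤ, IsIso ((homologyFunctor B i).map (τ.app ((singleFunctor A n).obj M)))

theorem isIso_app_congr {X Y : DerivedCategory A} (e : X ≅ Y) (i : ℤ)
    (h : IsIso ((homologyFunctor B i).map (τ.app X))) : IsIso ((homologyFunctor B i).map (τ.app Y)) :=
  (NatTrans.isIso_app_iff_of_iso (Functor.whiskerRight τ (homologyFunctor B i)) e).1 h

theorem cohIn_shift {E : DerivedCategory A} (hE : WSerre.cohIn P E) (k : ℤ) : WSerre.cohIn P (E⟦k⟧) := fun i =>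
  P.prop_of_iso (hShiftIso E k i (i + k) (by omega)).symm (hE (i + k))

/-- Bounded objects. -/
theorem isIso_of_bounded (h₁ : HExact Φ₁) (h₂ : HExact Φ₂) (hτ : OnSingles τ P) :
    ∀ (m : ℕ) (a : ℤ) (E : DerivedCategory A), E.IsGE a → E.IsLE (a + m) → WSerre.cohIn P E →
      ∀ i : ℤ, IsIso ((homologyFunctor B i).map (τ.app E)) := by
  intro m
  induction m with
  | zero =>
    intro a E hge hle hP i
    haveI : E.IsLE a := by simpa using hle
    obtain ⟨e⟩ := exists_iso_single_H E a
    exact isIso_app_congr τ e.symm i (hτ _ (hP a) a i)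
  | succ m ih =>
    intro a E hge hle hP i
    let L := ((tt).truncLT (a + 1)).obj E
    let R := ((tt).truncGE (a + 1)).obj E
    have hLle : L.IsLE a := (tt).isLE_truncLT_obj _ _ _ (by omega)
    have hLge : L.IsGE a := by
      rw [DerivedCategory.isGE_iff]
      intro j hj
      have := isIso_H_ι (a + 1) j (by omega) E
      exact (DerivedCategory.isZero_of_isGE E a j hj).of_iso
        (asIso ((homologyFunctor A j).map (((tt).truncLTι (a + 1)).app E)))
    have hLP : WSerre.cohIn P L := fun j => by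
      by_cases hj : j < a + 1
      · have := isIso_H_ι (a + 1) j hj E
        exact P.prop_of_iso (asIso ((homologyFunctor A j).map (((tt).truncLTι (a + 1)).app E))).symm (hP j)
      · obtain ⟨Z, hZ, hPZ⟩ := P.exists_prop_of_containsZero
        exact P.prop_of_iso (hZ.iso (DerivedCategory.isZero_of_isLE L a j (by omega))) hPZ
    have hRge : R.IsGE (a + 1) := inferInstance
    have hRP : WSerre.cohIn P R := fun j => by
      by_cases hj : a + 1 ≤ j
      · have := isIso_H_π (a + 1) j hj E
        exact P.prop_of_iso (asIso ((homologyFunctor A j).map (((tt).truncGEπ (a + 1)).app E))) (hP j)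
      · obtain ⟨Z, hZ, hPZ⟩ := P.exists_prop_of_containsZero
        exact P.prop_of_iso (hZ.iso (isZero_H_GE (a + 1) j (by omega) E)) hPZ
    have hRle : R.IsLE (a + 1 + m) := by
      rw [DerivedCategory.isLE_iff]
      intro j hj
      have := isIso_H_π (a + 1) j (by omega) E
      exact (DerivedCategory.isZero_of_isLE E (a + (m + 1 : ℕ)) j (by omega)).of_iso
        (asIso ((homologyFunctor A j).map (((tt).truncGEπ (a + 1)).app E))).symm
    have hone : ∀ (c : ℤ) (G : DerivedCategory A), G.IsGE c → G.IsLE c → WSerre.cohIn P G →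
        IsIso ((homologyFunctor B i).map (τ.app G)) := fun c G hg hl hG => by
      obtain ⟨e⟩ := exists_iso_single_H G c
      exact isIso_app_congr τ e.symm i (hτ _ (hG c) c i)
    refine isIso_of_triangle τ h₁ h₂ _ ((tt).triangleLTGE_distinguished (a + 1) E) i ?_ ?_ ?_ ?_
    · refine ih (a + 2) (R⟦(-1 : ℤ)⟧) ((tt).isGE_shift R (a + 1) (-1) (a + 2) (by omega))
        ?_ (cohIn_shift P hRP (-1)) i
      exact (tt).isLE_shift R (a + 1 + m) (-1) (a + 2 + m) (by omega)
    · exact hone a L hLge hLle hLP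
    · exact ih (a + 1) R hRge hRle hRP i
    · exact hone (a - 1) (L⟦(1 : ℤ)⟧) ((tt).isGE_shift L a 1 (a - 1) (by omega))
        ((tt).isLE_shift L a 1 (a - 1) (by omega)) (cohIn_shift P hLP 1)

/-- Bounded below objects. -/
theorem isIso_of_isGE (h₁ : HExact Φ₁) (h₂ : HExact Φ₂) (hτ : OnSingles τ P)
    (g₁ : ∀ (Y : DerivedCategory A) (n : ℤ), Y.IsGE n → (Φ₁.obj Y).IsGE n)
    (g₂ : ∀ (Y : DerivedCategory A) (n : ℤ), Y.IsGE n → (Φ₂.obj Y).IsGE n)
    (a : ℤ) (E : DerivedCategory A) (hE : E.IsGE a) (hP : WSerre.cohIn P E) (i : ℤ) :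
    IsIso ((homologyFunctor B i).map (τ.app E)) := by
  let c := max (i + 2) (a + 1)
  let L := ((tt).truncLT c).obj E
  let R := ((tt).truncGE c).obj E
  have hLle : L.IsLE (c - 1) := (tt).isLE_truncLT_obj _ _ _ (by omega)
  have hLge : L.IsGE a := by
    rw [DerivedCategory.isGE_iff]
    intro j hj
    have := isIso_H_ι c j (by omega) E
    exact (DerivedCategory.isZero_of_isGE E a j hj).of_iso
      (asIso ((homologyFunctor A j).map (((tt).truncLTι c).app E)))
  have hLP : WSerre.cohIn P L := fun j => by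
    by_cases hj : j < c
    · have := isIso_H_ι c j hj E
      exact P.prop_of_iso (asIso ((homologyFunctor A j).map (((tt).truncLTι c).app E))).symm (hP j)
    · obtain ⟨Z, hZ, hPZ⟩ := P.exists_prop_of_containsZero
      exact P.prop_of_iso (hZ.iso (DerivedCategory.isZero_of_isLE L (c - 1) j (by omega))) hPZ
  obtain ⟨m, hm⟩ : ∃ m : ℕ, a + (m : ℤ) = c - 1 := ⟨(c - 1 - a).toNat, by omega⟩
  have hb := isIso_of_bounded τ P h₁ h₂ hτ
  have hz : ∀ (G : DerivedCategory A), G.IsGE (i + 1) → IsIso ((homologyFunctor B i).map (τ.app G)) := fun G hG => by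
    have z1 := g₁ G (i + 1) hG
    have z2 := g₂ G (i + 1) hG
    exact ⟨0, (DerivedCategory.isZero_of_isGE _ (i + 1) i (by omega)).eq_of_src _ _,
      (DerivedCategory.isZero_of_isGE _ (i + 1) i (by omega)).eq_of_src _ _⟩
  refine isIso_of_triangle τ h₁ h₂ _ ((tt).triangleLTGE_distinguished c E) i ?_ ?_ ?_ ?_
  · haveI := (tt).isGE_shift R c (-1) (c + 1) (by omega)
    exact hz _ ((tt).isGE_of_ge (R⟦(-1 : ℤ)⟧) (i + 1) (c + 1) (by omega))
  · exact hb m a L hLge (hm ▸ hLle) hLP i
  · exact hz _ ((tt).isGE_of_ge R (i + 1) c (by omega))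
  · exact hb m (a - 1) (L⟦(1 : ℤ)⟧) ((tt).isGE_shift L a 1 (a - 1) (by omega))
      ((tt).isLE_shift L (c - 1) 1 (a - 1 + m) (by omega)) (cohIn_shift P hLP 1) i

end Groth.L17.DerBC
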