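import Groth.Agent.L10.RDerBound

/-!
# Stability of truncations under locally bounded cohomological dimension

The bound on the cohomological dimension may depend on the test object: isomorphisms are detected by exact functors.
-/

set_option autoImplicit false
set_option linter.style.haveILetI false
set_option linter.unusedSectionVars false
set_option backward.defeqAttrib.useBackward true
set_option backward.isDefEq.respectTransparency false
set_option backward.isDefEq.respectTransparency.types false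

universe t w w' v v' u u' s

open CategoryTheory CategoryTheory.Limits CategoryTheory.Pretriangulated DerivedCategory

noncomputable section

namespace Groth.L17.DerBC

open Groth.L10 Groth.L10.TowerStab Groth.L10.RDerBound

variable {B : Type u'} [Category.{v'} B] [Abelian B]

/-- A family of exact functors detects morphisms out of a test object. -/
def Detects {κ : Type t} (R : κ → (B ⥤ AddCommGrpCat.{s})) (P : B) : Prop :=
  ∀ M : B, (∀ k, IsZero ((R k).obj M)) → ∀ a : P ⟶ M, a = 0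

variable {κ : Type t} {R : κ → (B ⥤ AddCommGrpCat.{s})} [∀ k, PreservesFiniteLimits (R k)]
  [∀ k, PreservesFiniteColimits (R k)] [∀ k, (R k).Additive]

theorem eq_zero_of_comp {P M N : B} (h : Detects R P) (g : M ⟶ N) (hg : ∀ k, IsIso ((R k).map g))
    (a : P ⟶ M) (ha : a ≫ g = 0) : a = 0 := by
  have := h (kernel g) (fun k => by
    haveI := hg k
    exact (isZero_kernel_of_mono ((R k).map g)).of_iso (PreservesKernel.iso (R k) g)) (kernel.lift g a ha)
  rw [← kernel.lift_ι g a ha, this, zero_comp]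

theorem exists_lift_of_isIso {P M N : B} (h : Detects R P) (g : M ⟶ N) (hg : ∀ k, IsIso ((R k).map g))
    (a : P ⟶ N) : ∃ (T : B) (p : T ⟶ P) (_ : Epi p) (b : T ⟶ M), b ≫ g = p ≫ a := by
  have h0 : a ≫ cokernel.π g = 0 := h (cokernel g) (fun k => by
    haveI := hg k
    exact (isZero_cokernel_of_epi ((R k).map g)).of_iso (PreservesCokernel.iso (R k) g)) _
  let c : P ⟶ Abelian.image g := kernel.lift _ a h0
  refine ⟨pullback (Abelian.factorThruImage g) c, pullback.snd _ _, inferInstance, pullback.fst _ _, ?_⟩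
  refine (congrArg (pullback.fst _ _ ≫ ·) (Abelian.image.fac g).symm).trans ?_
  show pullback.fst _ _ ≫ Abelian.factorThruImage g ≫ Abelian.image.ι g = _
  rw [← Category.assoc, pullback.condition, Category.assoc, kernel.lift_ι]

variable [HasDerivedCategory.{w'} B]

local notation "tt" => DerivedCategory.TStructure.t
local notation "H0" => homologyFunctor B 0
local notation "S0" => singleFunctor B 0

/-- Kernel part of the local criterion. -/
theorem mono_H0_at [KInjDerived.EnoughKInjectives B] {ι : Type t} (𝒞 : LocalDetect.Cover B ι) (i : ι) (hdet : Detects R (𝒞.P i))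
    {X Y Z : DerivedCategory B} (f' : X ⟶ Z) (g : Z ⟶ Y) (hg : ∀ k, IsIso ((R k).map ((H0).map g)))
    (hinj : ∀ Q', 𝒞.good i Q' → ∀ ξ : (S0).obj Q' ⟶ X, ξ ≫ f' = 0 → ξ = 0)
    (a : 𝒞.P i ⟶ (H0).obj X) (ha : a ≫ (H0).map (f' ≫ g) = 0) : a = 0 := by
  rw [Functor.map_comp, ← Category.assoc] at ha
  have ha' := eq_zero_of_comp hdet _ hg _ ha
  obtain ⟨T₁, p₁, hp₁, ξ, hξ⟩ := LocalDetect.exists_lift a
  obtain ⟨T₂, p₂, hp₂, h₂⟩ := LocalDetect.exists_eq_zero (ξ ≫ f')
    (by rw [LocalDetect.cls_comp, hξ, Category.assoc, ha', comp_zero])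
  refine 𝒞.cov i (p₂ ≫ p₁) a fun Q' r hQ => ?_
  have := hinj Q' hQ ((S0).map (r ≫ p₂) ≫ ξ) (by
    rw [Functor.map_comp, Category.assoc, Category.assoc, h₂, comp_zero])
  have h3 := congrArg LocalDetect.cls this
  rw [LocalDetect.cls_zero, LocalDetect.cls_map, hξ] at h3
  simpa [Category.assoc] using h3

/-- Cokernel part of the local criterion. -/
theorem epi_H0_at [KInjDerived.EnoughKInjectives B] {ι : Type t} (𝒞 : LocalDetect.Cover B ι) (i : ι) (hdet : Detects R (𝒞.P i))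
    {X Y Z : DerivedCategory B} (f' : X ⟶ Z) (g : Z ⟶ Y) (hg : ∀ k, IsIso ((R k).map ((H0).map g)))
    (hsurj : ∀ Q', 𝒞.good i Q' → ∀ η : (S0).obj Q' ⟶ Z, ∃ ξ : (S0).obj Q' ⟶ X, ξ ≫ f' = η)
    (a : 𝒞.P i ⟶ (H0).obj Y) : a ≫ cokernel.π ((H0).map (f' ≫ g)) = 0 := by
  obtain ⟨T₀, p₀, hp₀, a₀, ha₀⟩ := exists_lift_of_isIso hdet _ hg a
  obtain ⟨T₁, p₁, hp₁, η, hη⟩ := LocalDetect.exists_lift a₀
  refine 𝒞.cov i (p₁ ≫ p₀) _ fun Q' r hQ => ?_
  obtain ⟨ξ, hξ⟩ := hsurj Q' hQ ((S0).map r ≫ η)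
  have h3 := congrArg LocalDetect.cls hξ
  rw [LocalDetect.cls_comp, LocalDetect.cls_map, hη] at h3
  have h5 : r ≫ (p₁ ≫ p₀) ≫ a = LocalDetect.cls ξ ≫ (H0).map (f' ≫ g) := by
    rw [Functor.map_comp, reassoc_of% h3, Category.assoc, ← ha₀]
  rw [← Category.assoc (p₁ ≫ p₀), ← Category.assoc, h5, Category.assoc, cokernel.condition, comp_zero]

variable {A : Type u} [Category.{v} A] [Abelian A] [HasDerivedCategory.{w} A]
  [KInjDerived.EnoughKInjectives A] [KInjDerived.EnoughKInjectives B] [HasInjectiveResolutions A]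
  {F : A ⥤ B} [F.Additive] {RF : DerivedCategory A ⥤ DerivedCategory B}
  (α : F.mapHomotopyCategory (ComplexShape.up ℤ) ⋙ Qh ⟶ Qh ⋙ RF)
  [RF.IsRightDerivedFunctor α (HomotopyCategory.quasiIso A (ComplexShape.up ℤ))]
  (X : DerivedCategory A)

include α in
/-- Transition maps are isomorphisms under exact functors killing the high derived images. -/
theorem isIso_R_H_map_tr (R₀ : B ⥤ AddCommGrpCat.{s}) [PreservesFiniteLimits R₀] [PreservesFiniteColimits R₀]
    [R₀.Additive] (N : ℕ)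
    (hN : ∀ (a : ℤ) (p : ℕ), N < p → IsZero (R₀.obj ((F.rightDerived p).obj ((homologyFunctor A a).obj X))))
    (j : ℤ) (n : ℕ) (hj : (N : ℤ) - (n : ℤ) ≤ j) :
    IsIso (R₀.map ((homologyFunctor B j).map (RF.map (tr X n)))) := by
  obtain ⟨Z, i, δ, hT, ⟨e⟩⟩ := exists_fibre_map α X n
  let a : ℤ := -((n + 1 : ℕ) : ℤ)
  let M := (homologyFunctor A a).obj X
  obtain ⟨h0, hp⟩ := RDerTri.isGE_single α M
  obtain ⟨es⟩ := RDerTri.nonempty_obj_shift α ((singleFunctor A 0).obj M) (-a)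
  have hz : ∀ j' : ℤ, j ≤ j' → IsZero (R₀.obj ((homologyFunctor B j').obj Z)) := fun j' hj' => by
    let eI : (homologyFunctor B j').obj Z ≅ (homologyFunctor B (j' - a)).obj (RF.obj ((singleFunctor A 0).obj M)) :=
      (homologyFunctor B j').mapIso (e ≪≫
        RF.mapIso (((singleFunctors A).shiftIso (-a) a 0 (by omega)).symm.app M) ≪≫ es) ≪≫
        hShiftIso _ (-a) j' (j' - a) (by omega)
    refine IsZero.of_iso ?_ (R₀.mapIso eI)
    by_cases hlt : j' - a < 0
    · exact R₀.map_isZero (DerivedCategory.isZero_of_isGE _ 0 (j' - a) hlt)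
    · obtain ⟨p, hp'⟩ : ∃ p : ℕ, (p : ℤ) = j' - a := ⟨(j' - a).toNat, by omega⟩
      rw [← hp']
      exact (hN a p (by simp only [a] at hp'; omega)).of_iso (R₀.mapIso (hp p).some)
  let T := Triangle.mk i (RF.map (tr X n)) δ
  haveI : Mono (R₀.map ((homologyFunctor B j).map (RF.map (tr X n)))) :=
    ((HomologySequence.exact₂ T hT j).map R₀).mono_g ((hz j le_rfl).eq_of_src _ _)
  haveI : Epi (R₀.map ((homologyFunctor B j).map (RF.map (tr X n)))) :=
    ((HomologySequence.exact₃ T hT j (j + 1) (by omega)).map R₀).epi_f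
      ((hz (j + 1) (by omega)).eq_of_tgt _ _)
  exact isIso_of_mono_of_epi _

variable [HasProductsOfShape ℕ A] [HasProductsOfShape ℕ B] [EnoughInjectives A]
  [HasExt.{w'} B] [PreservesLimitsOfShape (Discrete ℕ) F] {G : B ⥤ A} [G.Additive] (adj : G ⊣ F)
  (hE : ∀ Z : B, ∃ (Y : B) (p : Y ⟶ Z), AcycObj.Acyc F Y ∧ Epi p)

include α adj hE in
/-- Truncations are stable at a test object, with a bound depending on the test object. -/
theorem exists_stable_at {ιA ιB : Type t} {𝒞A : LocalDetect.Cover A ιA} (hlocA : LocBounded 𝒞A X)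
    (𝒞B : LocalDetect.Cover B ιB) (i : ιB) (hdet : Detects R (𝒞B.P i)) (d : ℕ)
    (hd : ∀ Qo, 𝒞B.good i Qo → Stab (RF := RF) X Qo d) (N : ℕ)
    (hN : ∀ k (a : ℤ) (p : ℕ), N < p → IsZero ((R k).obj ((F.rightDerived p).obj ((homologyFunctor A a).obj X))))
    (j : ℤ) (n : ℕ) (hj : (N : ℤ) - (n : ℤ) ≤ j) :
    (∀ u : 𝒞B.P i ⟶ (homologyFunctor B j).obj (RF.obj X),
        u ≫ (homologyFunctor B j).map (RF.map (((tt).truncGEπ (-(n : ℤ))).app X)) = 0 → u = 0) ∧
      ∀ u : 𝒞B.P i ⟶ (homologyFunctor B j).obj (RF.obj (((tt).truncGE (-(n : ℤ))).obj X)),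
        u ≫ cokernel.π ((homologyFunctor B j).map (RF.map (((tt).truncGEπ (-(n : ℤ))).app X))) = 0 := by
  haveI := DerivedProd.hasProductsOfShape (A := A) (ι := ℕ)
  haveI := DerivedProd.hasProductsOfShape (A := B) (ι := ℕ)
  have hL := isRlimVia_truncGE hlocA
  have hRL := ExactProd.isRlimVia_of_prod F RF α (fun I hI W => AcycObj.product_bijective adj hE I W) _ _ X _ hL
  let K := fun m : ℕ => RF.obj (((tt).truncGE (-(m : ℤ))).obj X)
  let t := fun m : ℕ => RF.map (tr X m)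
  let a := fun m : ℕ => RF.map (((tt).truncGEπ (-(m : ℤ))).app X)
  let H := homologyFunctor B j
  have hst : ∀ m, n ≤ m → ∀ k, IsIso ((R k).map (H.map (t m))) := fun m hm k =>
    isIso_R_H_map_tr α X (R k) N (hN k) j m (by omega)
  have htrans : ∀ m : ℕ, ∃ g : K (n + m) ⟶ K n, a (n + m) ≫ g = a n ∧ ∀ k, IsIso ((R k).map (H.map g)) := fun m => by
    induction m with
    | zero => exact ⟨𝟙 _, Category.comp_id _, fun k => inferInstance⟩
    | succ m ih =>
      obtain ⟨g, hg, hg'⟩ := ih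
      refine ⟨t (n + m) ≫ g, ?_, fun k => ?_⟩
      · exact (Category.assoc _ _ _).symm.trans ((congrArg (· ≫ g) (rlim_w hRL (n + m))).trans hg)
      · haveI := hst (n + m) (by omega) k
        haveI := hg' k
        rw [Functor.map_comp, Functor.map_comp]
        infer_instance
  let N₀ : ℕ := ((d : ℤ) - j + 2).toNat
  obtain ⟨g, hg, hg'⟩ := htrans N₀
  let sadj := (shiftEquiv (DerivedCategory B) j).symm.toAdjunction
  have hbij : ∀ Q', 𝒞B.good i Q' →
      Function.Bijective (fun ξ : (S0).obj Q' ⟶ (RF.obj X)⟦j⟧ => ξ ≫ (a (n + N₀))⟦j⟧') := fun Q' hQ => by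
    have hb : Function.Bijective (fun x : ((S0).obj Q')⟦(-j)⟧ ⟶ RF.obj X => x ≫ a (n + N₀)) :=
      bijective_rlim hRL (((S0).obj Q')⟦(-j)⟧) (n + N₀)
        (fun m hm => bijective_map_tr α X (hd Q' hQ) _ m (by omega)) (fun m hm x => by
          let e := (shiftFunctorAdd' (DerivedCategory B) (-j) 1 (-j + 1) rfl).app ((S0).obj Q')
          obtain ⟨y, hy⟩ := (bijective_map_tr α X (hd Q' hQ) (-j + 1) m (by omega)).surjective (e.hom ≫ x)
          exact ⟨e.inv ≫ y, (Category.assoc _ _ _).trans ((congrArg (e.inv ≫ ·) hy).trans (Iso.inv_hom_id_assoc _ _))⟩)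
    have hc : (fun ξ : (S0).obj Q' ⟶ (RF.obj X)⟦j⟧ => ξ ≫ (a (n + N₀))⟦j⟧') =
        (sadj.homEquiv _ _) ∘ (fun x => x ≫ a (n + N₀)) ∘ (sadj.homEquiv _ _).symm := by
      funext ξ
      simp only [Function.comp_apply]
      exact ((sadj.homEquiv_naturality_right ((sadj.homEquiv _ _).symm ξ) (a (n + N₀))).trans
        (congrArg (fun z => z ≫ (a (n + N₀))⟦j⟧') ((sadj.homEquiv _ _).apply_symm_apply ξ))).symm
    rw [hc]
    exact (sadj.homEquiv _ _).bijective.comp (hb.comp (sadj.homEquiv _ _).symm.bijective)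
  let σ := fun Y : DerivedCategory B => hShiftIso Y j 0 j (by omega)
  have hgR : ∀ k, IsIso ((R k).map ((H0).map (g⟦j⟧'))) := fun k => by
    haveI := hg' k
    have : (H0).map (g⟦j⟧') = (σ _).hom ≫ H.map g ≫ (σ _).inv := by
      rw [← reassoc_of% (hShiftIso_nat g j 0 j (by omega)), Iso.hom_inv_id, Category.comp_id]
    rw [this, Functor.map_comp, Functor.map_comp]
    infer_instance
  have hfac : (a (n + N₀))⟦j⟧' ≫ g⟦j⟧' = (a n)⟦j⟧' := by rw [← Functor.map_comp, hg]
  have hnat : (H0).map ((a n)⟦j⟧') ≫ (σ (K n)).hom = (σ (RF.obj X)).hom ≫ H.map (a n) :=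
    hShiftIso_nat (a n) j 0 j (by omega)
  constructor
  · intro u hu
    have h1 : (u ≫ (σ (RF.obj X)).inv) ≫ (H0).map ((a (n + N₀))⟦j⟧' ≫ g⟦j⟧') = 0 := by
      rw [hfac, ← cancel_mono (σ (K n)).hom, Category.assoc, hnat, Category.assoc, Iso.inv_hom_id_assoc, zero_comp]
      exact hu
    have h2 := mono_H0_at 𝒞B i hdet _ _ hgR
      (fun Q' hQ ξ hξ => (hbij Q' hQ).injective (hξ.trans zero_comp.symm)) _ h1
    rw [← cancel_mono (σ (RF.obj X)).inv, h2, zero_comp]
  · intro u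
    have h2 := epi_H0_at 𝒞B i hdet ((a (n + N₀))⟦j⟧') (g⟦j⟧') hgR
      (fun Q' hQ η => (hbij Q' hQ).surjective η) (u ≫ (σ (K n)).inv)
    rw [hfac] at h2
    let c := cokernel.map ((H0).map ((a n)⟦j⟧')) (H.map (a n)) (σ (RF.obj X)).hom (σ (K n)).hom hnat
    have h3 := congrArg (· ≫ c) h2
    simpa [c] using h3

end Groth.L17.DerBC
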