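import Groth.Agent.L10.ExactAdj.Derived
import Mathlib.Algebra.Homology.DerivedCategory.ExactFunctor
import Mathlib.Algebra.Homology.ShortComplex.PreservesHomology

/-!
# Exact functors and exact adjunctions on cohomology objects of the derived category
-/

set_option autoImplicit false
set_option linter.style.haveILetI false
set_option linter.unusedSectionVars false
set_option backward.defeqAttrib.useBackward true
set_option backward.isDefEq.respectTransparency false
set_option backward.isDefEq.respectTransparency.types false

universe w₁ w₂ v₁ v₂ u₁ u₂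

open CategoryTheory CategoryTheory.Limits DerivedCategory

noncomputable section

namespace Groth.L17.DerBC

variable {A : Type u₁} [Category.{v₁} A] [Abelian A] [HasDerivedCategory.{w₁} A]
  {B : Type u₂} [Category.{v₂} B] [Abelian B] [HasDerivedCategory.{w₂} B]

section Exact

variable (T : A ⥤ B) [T.Additive] [PreservesFiniteLimits T] [PreservesFiniteColimits T]

/-- An exact functor commutes with the homology of complexes. -/
def mapHom (i : ℤ) : T.mapHomologicalComplex (ComplexShape.up ℤ) ⋙
      HomologicalComplex.homologyFunctor B (ComplexShape.up ℤ) i ≅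
    HomologicalComplex.homologyFunctor A (ComplexShape.up ℤ) i ⋙ T :=
  NatIso.ofComponents (fun K => (K.sc i).mapHomologyIso T) fun {K L} f =>
    ShortComplex.mapHomologyIso_hom_naturality
      ((HomologicalComplex.shortComplexFunctor A (ComplexShape.up ℤ) i).map f) T

/-- An exact functor commutes with the cohomology objects of the derived category. -/
def hD (i : ℤ) : T.mapDerivedCategory ⋙ homologyFunctor B i ≅ homologyFunctor A i ⋙ T :=
  letI : Localization.Lifting Q (HomologicalComplex.quasiIso A (ComplexShape.up ℤ))
      (T.mapHomologicalComplex (ComplexShape.up ℤ) ⋙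
        HomologicalComplex.homologyFunctor B (ComplexShape.up ℤ) i)
      (T.mapDerivedCategory ⋙ homologyFunctor B i) :=
    ⟨(Functor.associator _ _ _).symm ≪≫ Functor.isoWhiskerRight T.mapDerivedCategoryFactors _ ≪≫
      Functor.associator _ _ _ ≪≫ Functor.isoWhiskerLeft _ (homologyFunctorFactors B i)⟩
  letI : Localization.Lifting Q (HomologicalComplex.quasiIso A (ComplexShape.up ℤ))
      (HomologicalComplex.homologyFunctor A (ComplexShape.up ℤ) i ⋙ T)
      (homologyFunctor A i ⋙ T) :=
    ⟨(Functor.associator _ _ _).symm ≪≫ Functor.isoWhiskerRight (homologyFunctorFactors A i) T⟩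
  Localization.liftNatIso Q (HomologicalComplex.quasiIso A (ComplexShape.up ℤ))
    (T.mapHomologicalComplex (ComplexShape.up ℤ) ⋙ HomologicalComplex.homologyFunctor B (ComplexShape.up ℤ) i)
    (HomologicalComplex.homologyFunctor A (ComplexShape.up ℤ) i ⋙ T) _ _ (mapHom T i)

theorem hD_app_Q (i : ℤ) (K : CochainComplex A ℤ) :
    (hD T i).hom.app (Q.obj K) = (homologyFunctor B i).map (T.mapDerivedCategoryFactors.hom.app K) ≫
      (homologyFunctorFactors B i).hom.app ((T.mapHomologicalComplex (ComplexShape.up ℤ)).obj K) ≫
      (mapHom T i).hom.app K ≫ T.map ((homologyFunctorFactors A i).inv.app K) := by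
  simp only [hD, Localization.liftNatIso_hom, Localization.liftNatTrans_app]
  simp

end Exact

section Adj

variable {L : A ⥤ B} {R : B ⥤ A} [L.Additive] [R.Additive]
  [PreservesFiniteLimits L] [PreservesFiniteColimits L] [PreservesFiniteLimits R] [PreservesFiniteColimits R]
  (adj : L ⊣ R)

/-- The unit of the adjunction on complexes, on homology. -/
theorem homologyMap_unit (i : ℤ) (K : CochainComplex A ℤ) :
    HomologicalComplex.homologyMap ((Groth.L10.ExactAdj.adjCx adj).unit.app K) i ≫
      (mapHom R i).hom.app ((L.mapHomologicalComplex (ComplexShape.up ℤ)).obj K) ≫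
        R.map ((mapHom L i).hom.app K) = adj.unit.app (K.homology i) := by
  let S := K.sc i
  let h := S.homologyData.left
  let φ : S ⟶ (S.map L).map R :=
    (HomologicalComplex.shortComplexFunctor A (ComplexShape.up ℤ) i).map
      ((Groth.L10.ExactAdj.adjCx adj).unit.app K)
  let γ : ShortComplex.LeftHomologyMapData φ h ((h.map L).map R) :=
    { φK := adj.unit.app h.K
      φH := adj.unit.app h.H
      commi := (adj.unit.naturality h.i).symm
      commf' := by
        have h1 : h.f' ≫ adj.unit.app h.K = adj.unit.app S.X₁ ≫ R.map (L.map h.f') := adj.unit.naturality h.f'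
        refine h1.trans (congrArg (adj.unit.app S.X₁ ≫ ·) ?_)
        rw [ShortComplex.LeftHomologyData.map_f', ShortComplex.LeftHomologyData.map_f']
      commπ := adj.unit.naturality h.π }
  show ShortComplex.homologyMap φ ≫ ((S.map L).mapHomologyIso R).hom ≫ R.map (S.mapHomologyIso L).hom =
    adj.unit.app S.homology
  rw [γ.homologyMap_eq, h.mapHomologyIso_eq L, (h.map L).mapHomologyIso_eq R]
  simp only [Iso.trans_hom, Functor.mapIso_hom, Iso.symm_hom, Functor.map_comp, Category.assoc,
    Iso.inv_hom_id_assoc]
  rw [← R.map_comp_assoc, Iso.inv_hom_id, CategoryTheory.Functor.map_id, Category.id_comp]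
  show h.homologyIso.hom ≫ adj.unit.app h.H ≫ R.map (L.map h.homologyIso.inv) = _
  have h2 : h.homologyIso.inv ≫ adj.unit.app S.homology = adj.unit.app h.H ≫ R.map (L.map h.homologyIso.inv) :=
    adj.unit.naturality h.homologyIso.inv
  rw [← h2, Iso.hom_inv_id_assoc]

/-- The unit of the derived adjunction, on cohomology objects. -/
theorem homology_unit (i : ℤ) (E : DerivedCategory A) :
    (homologyFunctor A i).map ((Groth.L10.ExactAdj.adjD adj).unit.app E) ≫
      (hD R i).hom.app (L.mapDerivedCategory.obj E) ≫ R.map ((hD L i).hom.app E) =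
    adj.unit.app ((homologyFunctor A i).obj E) := by
  obtain ⟨K, ⟨e⟩⟩ : ∃ K, Nonempty (Q.obj K ≅ E) := ⟨Q.objPreimage E, ⟨Q.objObjPreimageIso E⟩⟩
  suffices h : (homologyFunctor A i).map ((Groth.L10.ExactAdj.adjD adj).unit.app (Q.obj K)) ≫
      (hD R i).hom.app (L.mapDerivedCategory.obj (Q.obj K)) ≫ R.map ((hD L i).hom.app (Q.obj K)) =
      adj.unit.app ((homologyFunctor A i).obj (Q.obj K)) by
    let τ : homologyFunctor A i ⟶ homologyFunctor A i ⋙ L ⋙ R :=
      Functor.whiskerRight (Groth.L10.ExactAdj.adjD adj).unit (homologyFunctor A i) ≫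
        Functor.whiskerLeft L.mapDerivedCategory (hD R i).hom ≫
          Functor.whiskerRight (hD L i).hom R
    have hτ : ∀ G, τ.app G = (homologyFunctor A i).map ((Groth.L10.ExactAdj.adjD adj).unit.app G) ≫
        (hD R i).hom.app (L.mapDerivedCategory.obj G) ≫ R.map ((hD L i).hom.app G) := fun G => by
      simp [τ]
    rw [← hτ] at h ⊢
    have n1 := τ.naturality e.hom
    have n2 := adj.unit.naturality ((homologyFunctor A i).map e.hom)
    rw [h] at n1
    haveI : IsIso ((homologyFunctor A i).map e.hom) := inferInstance
    rw [← cancel_epi ((homologyFunctor A i).map e.hom)]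
    exact n1.trans n2.symm
  have hu : (Groth.L10.ExactAdj.adjD adj).unit.app (Q.obj K) =
      Q.map ((Groth.L10.ExactAdj.adjCx adj).unit.app K) ≫
        R.mapDerivedCategoryFactors.inv.app ((L.mapHomologicalComplex (ComplexShape.up ℤ)).obj K) ≫
        R.mapDerivedCategory.map (L.mapDerivedCategoryFactors.inv.app K) := by
    letI : CatCommSq (L.mapHomologicalComplex (ComplexShape.up ℤ)) DerivedCategory.Q DerivedCategory.Q L.mapDerivedCategory :=
      ⟨L.mapDerivedCategoryFactors.symm⟩
    letI : CatCommSq (R.mapHomologicalComplex (ComplexShape.up ℤ)) DerivedCategory.Q DerivedCategory.Q R.mapDerivedCategory :=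
      ⟨R.mapDerivedCategoryFactors.symm⟩
    exact Adjunction.localization_unit_app (Groth.L10.ExactAdj.adjCx adj) DerivedCategory.Q
      (HomologicalComplex.quasiIso A (ComplexShape.up ℤ)) DerivedCategory.Q
      (HomologicalComplex.quasiIso B (ComplexShape.up ℤ)) L.mapDerivedCategory R.mapDerivedCategory K
  let H := homologyFunctor A i
  let LK := (L.mapHomologicalComplex (ComplexShape.up ℤ)).obj K
  have hn : H.map (R.mapDerivedCategory.map (L.mapDerivedCategoryFactors.inv.app K)) ≫
      (hD R i).hom.app (L.mapDerivedCategory.obj (Q.obj K)) =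
      (hD R i).hom.app (Q.obj LK) ≫ R.map ((homologyFunctor B i).map (L.mapDerivedCategoryFactors.inv.app K)) :=
    (hD R i).hom.naturality (L.mapDerivedCategoryFactors.inv.app K)
  have h3 : H.map (Q.map ((Groth.L10.ExactAdj.adjCx adj).unit.app K)) ≫
      (homologyFunctorFactors A i).hom.app _ = (homologyFunctorFactors A i).hom.app K ≫
        HomologicalComplex.homologyMap ((Groth.L10.ExactAdj.adjCx adj).unit.app K) i :=
    (homologyFunctorFactors A i).hom.naturality _
  have h4 := (adj.unit.naturality ((homologyFunctorFactors A i).inv.app K))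
  rw [hu, Functor.map_comp, Functor.map_comp, Category.assoc, Category.assoc]
  erw [reassoc_of% hn]
  rw [hD_app_Q, hD_app_Q]
  have e1 : H.map (R.mapDerivedCategoryFactors.inv.app LK) ≫ H.map (R.mapDerivedCategoryFactors.hom.app LK) = 𝟙 _ := by
    rw [← Functor.map_comp, Iso.inv_hom_id_app, CategoryTheory.Functor.map_id]
  have e2 : R.map ((homologyFunctor B i).map (L.mapDerivedCategoryFactors.inv.app K)) ≫
      R.map ((homologyFunctor B i).map (L.mapDerivedCategoryFactors.hom.app K)) = 𝟙 _ := by
    rw [← Functor.map_comp, ← Functor.map_comp, Iso.inv_hom_id_app, CategoryTheory.Functor.map_id,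
      CategoryTheory.Functor.map_id]
  have e3 : R.map ((homologyFunctorFactors B i).inv.app LK) ≫ R.map ((homologyFunctorFactors B i).hom.app LK) = 𝟙 _ := by
    rw [← Functor.map_comp, Iso.inv_hom_id_app, CategoryTheory.Functor.map_id]
  simp only [Functor.map_comp, Category.assoc]
  erw [reassoc_of% e1]
  erw [reassoc_of% e2]
  erw [reassoc_of% e3]
  erw [reassoc_of% h3]
  erw [reassoc_of% (homologyMap_unit adj i K)]
  erw [← h4]
  exact Iso.hom_inv_id_app_assoc (homologyFunctorFactors A i) K _

end Adj

end Groth.L17.DerBC
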