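import Groth.Agent.L17.DerBC.MapHomology
import Groth.Agent.L17.CohUnion.Colim
import Groth.Agent.L17.ComplExt.CohBC
import Groth.Agent.L17.IndRpush.WeakSerre
import Groth.Agent.L17.IndRpush.Tilde.Stalk
import Groth.Prelude.Def_SiteCmp

/-!
# Completion of quasi-coherent modules on locally Noetherian schemes, without compactness
-/

set_option autoImplicit false
set_option linter.style.haveILetI false
set_option linter.unusedSectionVars false
set_option backward.defeqAttrib.useBackward true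
set_option backward.isDefEq.respectTransparency false
set_option backward.isDefEq.respectTransparency.types false

universe u

open CategoryTheory CategoryTheory.Limits AlgebraicGeometry TopologicalSpace Opposite DerivedCategory

attribute [local instance] HasDerivedCategory.standard

noncomputable section

namespace Groth.L17.DerBC

open Groth.L17.FSheaf Groth.L17.Tilde

variable {X : Scheme.{u}} [IsLocallyNoetherian X] {𝔛 : FSch.Sys.{u}} (hX : 𝔛.IsLocNoethFormal)
  (p : ∀ k, 𝔛.X k ⟶ X) (hp : ∀ k, 𝔛.ι k ≫ p (k + 1) = p k)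

/-- The completion of a quasi-coherent module is ind-coherent. -/
theorem ind_pull (M : X.Modules) (hM : Coh.IsQCoh M) :
    Groth.L17.IndRpush.ind hX ((kap 𝔛 hX.1 p hp).pull.obj M) := by
  haveI := hM
  obtain ⟨I, _, _, D, c, hc, hD, -, rfl⟩ := Groth.L17.CohUnion.exists_isColimit_coh M
  haveI : PreservesColimitsOfSize.{u, u} (kap 𝔛 hX.1 p hp).pull := (kap 𝔛 hX.1 p hp).adj.leftAdjoint_preservesColimits
  exact ⟨I, inferInstance, inferInstance,
    { diag := D ⋙ (kap 𝔛 hX.1 p hp).pull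
      ι := ((kap 𝔛 hX.1 p hp).pull.mapCocone c).ι
      isColimit := isColimitOfPreserves (kap 𝔛 hX.1 p hp).pull hc },
    fun j => isCohF_pull 𝔛 p hp (D.obj j) hX (hD j)⟩

/-- The completion of an object with quasi-coherent cohomology has ind-coherent cohomology. -/
theorem cohIn_pull_ind [PreservesFiniteLimits (kap 𝔛 hX.1 p hp).pull]
    (E : DerivedCategory (ModSite.Mod X.sheaf))
    (hE : ∀ i : ℤ, Coh.IsQCoh (X := X) (SiteCmp.HMod E i)) (i : ℤ) :
    Groth.L17.IndRpush.ind hX (SiteCmp.HMod ((SiteCmp.pullD (kap 𝔛 hX.1 p hp)).obj E) i) := by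
  haveI : (kap 𝔛 hX.1 p hp).pull.Additive := SiteCmp.additive_pull _
  exact ObjectProperty.prop_of_iso _ ((hD (kap 𝔛 hX.1 p hp).pull i).app E).symm
    (ind_pull hX p hp _ (hE i))

variable [IsClosedImmersion (p 0)] {𝓘 : X.IdealSheafData} (hcut : CutBy 𝔛 p 𝓘)

include hcut in
/-- A quasi-coherent module without sections over the opens of `V` has completion without stalks over `V`. -/
theorem isZero_stAb_pull (K : X.Modules) (hK : Coh.IsQCoh K) (V : X.Opens)
    (h0 : ∀ O : X.Opens, O ≤ V → Subsingleton Γ(K, O)) (x : 𝔛.X 0) (hx : p 0 x ∈ V) :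
    IsZero ((stAb (𝔛.Osh hX.1) x).obj ((kap 𝔛 hX.1 p hp).pull.obj K)) := by
  haveI := hK
  obtain ⟨I, _, _, D, c, hc, hD, hm, rfl⟩ := Groth.L17.CohUnion.exists_isColimit_coh K
  let κ := kap 𝔛 hX.1 p hp
  haveI : PreservesColimitsOfSize.{u, u} κ.pull := κ.adj.leftAdjoint_preservesColimits
  haveI := preservesColimits_stAb (𝔛.Osh hX.1) x
  refine IsColimit.isZero_pt (c := (stAb (𝔛.Osh hX.1) x).mapCocone (κ.pull.mapCocone c))
    (isColimitOfPreserves (stAb (𝔛.Osh hX.1) x) (isColimitOfPreserves κ.pull hc))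
    (Functor.isZero _ fun j => ?_)
  show IsZero ((stAb (𝔛.Osh hX.1) x).obj (κ.pull.obj (D.obj j)))
  rw [AddCommGrpCat.isZero_iff_subsingleton]
  refine subsingleton_of_forall_eq 0 fun z => ?_
  obtain ⟨U, hxU, s, rfl⟩ := TopCat.Presheaf.exists_germ_eq (pre (𝔛.Osh hX.1) (κ.pull.obj (D.obj j))).presheaf z
  obtain ⟨U', ⟨W, hW, rfl⟩, hxU', hle⟩ := Opens.isBasis_iff_nbhd.1 (isBasis_pU 𝔛 p)
    (show x ∈ U ⊓ pU 𝔛 p V from ⟨hxU, hx⟩)
  obtain ⟨W', hW', hxW', hle'⟩ := exists_isAffineOpen_mem_and_subset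
    (show p 0 x ∈ W ⊓ V from ⟨hxU', hx⟩)
  have hW'W : W' ≤ W := fun y hy => (hle' hy).1
  have hW'V : W' ≤ V := fun y hy => (hle' hy).2
  have hU : pU 𝔛 p W' ≤ U := ((p 0).preimage_mono hW'W).trans (hle.trans inf_le_left)
  haveI : Subsingleton Γ(D.obj j, W') := by
    haveI := hm j
    haveI := h0 W' hW'V
    let G : X.Modules ⥤ _ := SheafOfModules.evaluation.{u} X.ringCatSheaf (op W')
    haveI : PreservesLimitsOfShape WalkingCospan G :=
      inferInstanceAs (PreservesLimitsOfShape WalkingCospan (SheafOfModules.evaluation.{u} X.ringCatSheaf (op W')))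
    haveI : Mono (G.map (c.ι.app j)) := G.map_mono _
    have hG : Function.Injective (G.map (c.ι.app j)) := (ModuleCat.mono_iff_injective _).1 inferInstance
    have hinj : Function.Injective (Scheme.Modules.Hom.app (c.ι.app j) W') := hG
    haveI : Subsingleton ↑Γ(((Functor.const I).obj c.pt).obj j, W') := h0 W' hW'V
    exact hinj.subsingleton
  haveI : Subsingleton (Groth.L17.ComplExt.CS 𝔛 hX.1 p hp (D.obj j) W') := by
    letI := Groth.L17.ComplExt.algShp 𝔛 hX.1 p hp W'
    letI := Groth.L17.ComplExt.modShp 𝔛 hX.1 p hp W' (Groth.L17.ComplExt.CS 𝔛 hX.1 p hp (D.obj j) W')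
    haveI : IsScalarTower Γ(X, W') (O 𝔛 hX.1 (pU 𝔛 p W')) (Groth.L17.ComplExt.CS 𝔛 hX.1 p hp (D.obj j) W') :=
      IsScalarTower.of_algebraMap_smul fun _ _ => rfl
    have hbc : IsBaseChange (O 𝔛 hX.1 (pU 𝔛 p W')) (Groth.L17.ComplExt.unitSec 𝔛 hX.1 p hp (D.obj j) W') :=
      Groth.L17.ComplExt.isBCAt_coh hp hX hcut (hD j) hW'
    exact hbc.equiv.symm.toEquiv.subsingleton
  refine (TopCat.Presheaf.germ_res_apply (pre (𝔛.Osh hX.1) (κ.pull.obj (D.obj j))).presheaf
    (homOfLE hU) x (show x ∈ pU 𝔛 p W' from hxW') s).symm.trans ?_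
  exact (congrArg _ (Subsingleton.elim (α := Groth.L17.ComplExt.CS 𝔛 hX.1 p hp (D.obj j) W') _ 0)).trans (map_zero _)

include hcut in
/-- A morphism of quasi-coherent modules bijective over `V` completes to isomorphisms on stalks over `V`. -/
theorem isIso_stAb_pull_map [PreservesFiniteLimits (kap 𝔛 hX.1 p hp).pull] {M N : X.Modules}
    (hM : Coh.IsQCoh M) (hN : Coh.IsQCoh N) (g : M ⟶ N) (V : X.Opens)
    (hg : IsIso ((Scheme.Modules.restrictFunctor V.ι).map g)) (x : 𝔛.X 0) (hx : p 0 x ∈ V) :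
    IsIso ((stAb (𝔛.Osh hX.1) x).map ((kap 𝔛 hX.1 p hp).pull.map g)) := by
  let R := Scheme.Modules.restrictFunctor V.ι
  haveI : (kap 𝔛 hX.1 p hp).pull.Additive := SiteCmp.additive_pull _
  let T : X.Modules ⥤ AddCommGrpCat.{u} := (kap 𝔛 hX.1 p hp).pull ⋙ stAb (𝔛.Osh hX.1) x
  haveI := preservesFiniteLimits_stAb (𝔛.Osh hX.1) x
  haveI := additive_stAb (𝔛.Osh hX.1) x
  haveI := preservesColimits_stAb (𝔛.Osh hX.1) x
  haveI : PreservesFiniteColimits (stAb (𝔛.Osh hX.1) x) := PreservesColimitsOfSize.preservesFiniteColimits _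
  haveI : PreservesFiniteLimits (show X.Modules ⥤ _ from (kap 𝔛 hX.1 p hp).pull) :=
    ‹PreservesFiniteLimits (kap 𝔛 hX.1 p hp).pull›
  haveI : PreservesFiniteColimits (show X.Modules ⥤ _ from (kap 𝔛 hX.1 p hp).pull) :=
    SiteCmp.preservesFiniteColimits_pull _
  haveI : PreservesFiniteLimits T := comp_preservesFiniteLimits _ _
  haveI : PreservesFiniteColimits T := comp_preservesFiniteColimits _ _
  have sub : ∀ (G : X.Modules), IsZero (R.obj G) → ∀ O : X.Opens, O ≤ V → Subsingleton Γ(G, O) := fun G hG O hO => by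
    refine subsingleton_of_forall_eq 0 fun s => ?_
    obtain ⟨O', rfl⟩ : ∃ O' : V.toScheme.Opens, V.ι ''ᵁ O' = O := ⟨V.ι ⁻¹ᵁ O, by
      rw [V.ι.image_preimage_eq_opensRange_inf, Scheme.Opens.opensRange_ι, inf_eq_right.2 hO]⟩
    exact congr(($(hG.eq_of_src (𝟙 (R.obj G)) 0)).app O' s)
  haveI := hg
  haveI : PreservesFiniteLimits R := by
    haveI : PreservesLimitsOfSize.{0, 0} R := inferInstance
    infer_instance
  haveI : PreservesColimitsOfSize.{u, u} R := (Scheme.Modules.restrictAdjunction V.ι).leftAdjoint_preservesColimits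
  haveI : PreservesFiniteColimits R := PreservesColimitsOfSize.preservesFiniteColimits _
  have hk : IsZero (T.obj (kernel g)) := isZero_stAb_pull hX p hp hcut _
    (Groth.L29.DC.isQCoh_kernel' g hM hN) V
    (sub _ ((isZero_kernel_of_mono (R.map g)).of_iso (PreservesKernel.iso R g))) x hx
  have hc : IsZero (T.obj (cokernel g)) := isZero_stAb_pull hX p hp hcut _
    (Groth.L29.DC.isQCoh_cokernel' g hM hN) V
    (sub _ ((isZero_cokernel_of_epi (R.map g)).of_iso (PreservesCokernel.iso R g))) x hx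
  haveI : Mono (T.map g) := (((ShortComplex.mk (kernel.ι g) g (kernel.condition g)).exact_of_f_is_kernel
    (kernelIsKernel g)).map T).mono_g (hk.eq_of_src _ _)
  haveI : Epi (T.map g) := (((ShortComplex.mk g (cokernel.π g) (cokernel.condition g)).exact_of_g_is_cokernel
    (cokernelIsCokernel g)).map T).epi_f (hc.eq_of_tgt _ _)
  exact isIso_of_mono_of_epi (T.map g)

end Groth.L17.DerBC
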