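import Groth.Agent.L17.AcyclicCx
import Groth.Agent.L10.DerivedAdjCx
import Groth.Agent.L10.KInjDerived
import Mathlib.Algebra.Homology.HomotopyCategory.KInjective

/-!
# Higher derived functors are the cohomology of the derived functor on objects in one degree, naturally
-/

set_option autoImplicit false
set_option linter.style.haveILetI false
set_option linter.unusedSectionVars false
set_option backward.defeqAttrib.useBackward true
set_option backward.isDefEq.respectTransparency false
set_option backward.isDefEq.respectTransparency.types false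

universe w₁ w₂ v₁ v₂ u₁ u₂

open CategoryTheory CategoryTheory.Limits DerivedCategory

noncomputable section

namespace Groth.L17.DerBC

variable {A : Type u₁} [Category.{v₁} A] [Abelian A] {B : Type u₂} [Category.{v₂} B] [Abelian B]
  (F : A ⥤ B) [F.Additive] (n i : ℤ) (q : ℕ)

/-- `mapExtendIso` is natural. -/
theorem mapExtendIso_natural {K L : CochainComplex A ℕ} (φ : K ⟶ L) (e : (ComplexShape.up ℕ).Embedding (ComplexShape.up ℤ)) :
    (F.mapHomologicalComplex (ComplexShape.up ℤ)).map (HomologicalComplex.extendMap φ e) ≫
        (Groth.L17.GrothSS.mapExtendIso F L e).hom =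
      (Groth.L17.GrothSS.mapExtendIso F K e).hom ≫
        HomologicalComplex.extendMap ((F.mapHomologicalComplex (ComplexShape.up ℕ)).map φ) e := by
  ext k
  have key : ∀ o : Option ℕ, F.map (HomologicalComplex.extend.mapX φ o) ≫
      (Groth.L17.GrothSS.mapExtendX F L o).hom = (Groth.L17.GrothSS.mapExtendX F K o).hom ≫
        HomologicalComplex.extend.mapX ((F.mapHomologicalComplex (ComplexShape.up ℕ)).map φ) o
    | some _ => (Category.comp_id _).trans (Category.id_comp _).symm
    | none => (HomologicalComplex.extend.isZero_X _ rfl).eq_of_tgt _ _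
  exact key (e.r k)

/-- The resolution of an object, placed in degrees `≥ n`. -/
abbrev resCx {X : A} (R : InjectiveResolution X) : CochainComplex A ℤ :=
  R.cocomplex.extend (ComplexShape.embeddingUpIntGE n)

theorem isKInjective_resCx {X : A} (R : InjectiveResolution X) : (resCx n R).IsKInjective := by
  haveI : (resCx n R).IsStrictlyGE n := inferInstanceAs (CochainComplex.IsStrictlyGE (R.cocomplex.extend _) n)
  haveI : ∀ k, Injective ((resCx n R).X k) := fun k => by
    by_cases hk : ∃ j, (ComplexShape.embeddingUpIntGE n).f j = k
    · obtain ⟨j, hj⟩ := hk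
      exact Injective.of_iso (HomologicalComplex.extendXIso R.cocomplex _ hj).symm (R.injective j)
    · exact IsZero.injective (HomologicalComplex.isZero_extend_X _ _ k fun j hj => hk ⟨j, hj⟩)
  exact CochainComplex.isKInjective_of_injective _ n

/-- The quasi-isomorphism to the resolution. -/
def resι {X : A} (R : InjectiveResolution X) : (CochainComplex.singleFunctor A n).obj X ⟶ resCx n R :=
  (HomologicalComplex.extendSingleIso (ComplexShape.embeddingUpIntGE n) X 0 n (by simp)).inv ≫
    HomologicalComplex.extendMap R.ι (ComplexShape.embeddingUpIntGE n)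

theorem quasiIso_resι {X : A} (R : InjectiveResolution X) : QuasiIso (resι n R) := by
  haveI : QuasiIso (HomologicalComplex.extendMap R.ι (ComplexShape.embeddingUpIntGE n)) := inferInstance
  simp only [resι]
  infer_instance

theorem resι_natural {X Y : A} (f : X ⟶ Y) (R : InjectiveResolution X) (R' : InjectiveResolution Y)
    (φ : R.cocomplex ⟶ R'.cocomplex) (comm : R.ι.f 0 ≫ φ.f 0 = f ≫ R'.ι.f 0) :
    (CochainComplex.singleFunctor A n).map f ≫ resι n R' =
      resι n R ≫ HomologicalComplex.extendMap φ (ComplexShape.embeddingUpIntGE n) := by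
  have h : (ComplexShape.embeddingUpIntGE n).f 0 = n := by simp
  refine HomologicalComplex.from_single_hom_ext ?_
  simp only [resι, Category.assoc, HomologicalComplex.comp_f, HomologicalComplex.extendMap_f _ _ h,
    HomologicalComplex.extendSingleIso_inv_f, CochainComplex.singleFunctor, CochainComplex.singleFunctors,
    HomologicalComplex.single_map_f_self]
  simp only [Category.assoc, Iso.inv_hom_id_assoc]
  rw [reassoc_of% comm]
  simp [HomologicalComplex.singleObjXSelf, HomologicalComplex.singleObjXIsoOfEq]

variable [HasInjectiveResolutions A]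

/-- `F` applied to the resolution in degrees `≥ n` computes the higher derived functor. -/
def resHom {X : A} (R : InjectiveResolution X) (h : n + (q : ℤ) = i) :
    ((F.mapHomologicalComplex (ComplexShape.up ℤ)).obj (resCx n R)).homology i ≅ (F.rightDerived q).obj X :=
  (HomologicalComplex.homologyFunctor B (ComplexShape.up ℤ) i).mapIso
      (Groth.L17.GrothSS.mapExtendIso F R.cocomplex (ComplexShape.embeddingUpIntGE n)) ≪≫
    HomologicalComplex.extendHomologyIso _ (ComplexShape.embeddingUpIntGE n) (by simp [h]) ≪≫
    (R.isoRightDerivedObj F q).symm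

theorem resHom_natural (h : n + (q : ℤ) = i) {X Y : A} (f : X ⟶ Y) (R : InjectiveResolution X)
    (R' : InjectiveResolution Y) (φ : R.cocomplex ⟶ R'.cocomplex) (comm : R.ι.f 0 ≫ φ.f 0 = f ≫ R'.ι.f 0) :
    HomologicalComplex.homologyMap ((F.mapHomologicalComplex (ComplexShape.up ℤ)).map
        (HomologicalComplex.extendMap φ (ComplexShape.embeddingUpIntGE n))) i ≫ (resHom F n i q R' h).hom =
      (resHom F n i q R h).hom ≫ (F.rightDerived q).map f := by
  have h1 := congrArg (fun t => HomologicalComplex.homologyMap t i)
    (mapExtendIso_natural F φ (ComplexShape.embeddingUpIntGE n))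
  simp only [HomologicalComplex.homologyMap_comp] at h1
  simp only [resHom, Iso.trans_hom, Functor.mapIso_hom, Iso.symm_hom, Category.assoc,
    HomologicalComplex.homologyFunctor_map]
  rw [reassoc_of% h1, HomologicalComplex.extendHomologyIso_hom_naturality_assoc]
  exact congrArg (_ ≫ ·) (congrArg (_ ≫ ·)
    (InjectiveResolution.isoRightDerivedObj_inv_naturality f R R' φ comm F q).symm)

variable [HasDerivedCategory.{w₁} A] [HasDerivedCategory.{w₂} B] [Groth.L10.KInjDerived.EnoughKInjectives A]
  {RF : DerivedCategory A ⥤ DerivedCategory B} (α : F.mapHomotopyCategory (ComplexShape.up ℤ) ⋙ Qh ⟶ Qh ⋙ RF)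
  [RF.IsRightDerivedFunctor α (HomotopyCategory.quasiIso A (ComplexShape.up ℤ))]

/-- The comparison of cohomology of `F` and `RF` on complexes. -/
def cmpH : F.mapHomologicalComplex (ComplexShape.up ℤ) ⋙ HomologicalComplex.homologyFunctor B (ComplexShape.up ℤ) i ⟶
    Q ⋙ RF ⋙ homologyFunctor B i :=
  Functor.whiskerLeft (F.mapHomologicalComplex (ComplexShape.up ℤ)) (homologyFunctorFactors B i).inv ≫
    Functor.whiskerRight (Groth.L10.DerivedAdj.toCx F α) (homologyFunctor B i)

theorem isIso_cmpH (I : CochainComplex A ℤ) [I.IsKInjective] : IsIso ((cmpH F i α).app I) := by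
  haveI := Groth.L10.KInjDerived.isIso_app_quotient α I
  haveI : IsIso ((Groth.L10.DerivedAdj.toCx F α).app I) := by
    simp only [Groth.L10.DerivedAdj.toCx]
    infer_instance
  simp only [cmpH, NatTrans.comp_app, Functor.whiskerLeft_app, Functor.whiskerRight_app]
  infer_instance

variable (h : n + (q : ℤ) = i)

/-- Higher derived functors as cohomology of the derived functor, on one object. -/
def singleIsoApp (X : A) :
    (homologyFunctor B i).obj (RF.obj (Q.obj ((CochainComplex.singleFunctor A n).obj X))) ≅ (F.rightDerived q).obj X :=
  haveI := quasiIso_resι n (injectiveResolution X)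
  haveI := isKInjective_resCx n (injectiveResolution X)
  haveI : IsIso (Q.map (resι n (injectiveResolution X))) :=
    (DerivedCategory.isIso_Q_map_iff_quasiIso _ _).2 inferInstance
  haveI := isIso_cmpH F i α (resCx n (injectiveResolution X))
  (homologyFunctor B i).mapIso (RF.mapIso (asIso (Q.map (resι n (injectiveResolution X))))) ≪≫
    (asIso ((cmpH F i α).app (resCx n (injectiveResolution X)))).symm ≪≫
      resHom F n i q (injectiveResolution X) h

/-- Higher derived functors are the cohomology of the derived functor on objects in degree `n`, naturally. -/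
def singleIso : CochainComplex.singleFunctor A n ⋙ Q ⋙ RF ⋙ homologyFunctor B i ≅ F.rightDerived q :=
  NatIso.ofComponents (singleIsoApp F n i q α h) fun {X Y} f => by
    let R := injectiveResolution X
    let R' := injectiveResolution Y
    let φ := InjectiveResolution.desc f R' R
    have comm : R.ι.f 0 ≫ φ.f 0 = f ≫ R'.ι.f 0 := InjectiveResolution.desc_commutes_zero f R' R
    haveI := isKInjective_resCx n R
    haveI := isKInjective_resCx n R'
    haveI := isIso_cmpH F i α (resCx n R)
    haveI := isIso_cmpH F i α (resCx n R')
    have h1 := congrArg (fun t => (homologyFunctor B i).map (RF.map (Q.map t))) (resι_natural n f R R' φ comm)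
    have h2 := (cmpH F i α).naturality (HomologicalComplex.extendMap φ (ComplexShape.embeddingUpIntGE n))
    simp only [Functor.map_comp, Functor.comp_map, HomologicalComplex.homologyFunctor_map] at h1 h2
    simp only [singleIsoApp, Iso.trans_hom, Functor.mapIso_hom, asIso_hom, Iso.symm_hom, asIso_inv,
      Category.assoc, Functor.comp_map]
    erw [reassoc_of% h1]
    have h3 : (homologyFunctor B i).map (RF.map (Q.map
          (HomologicalComplex.extendMap φ (ComplexShape.embeddingUpIntGE n)))) ≫ inv ((cmpH F i α).app (resCx n R')) =
        inv ((cmpH F i α).app (resCx n R)) ≫ HomologicalComplex.homologyMap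
          ((F.mapHomologicalComplex (ComplexShape.up ℤ)).map
            (HomologicalComplex.extendMap φ (ComplexShape.embeddingUpIntGE n))) i := by
      rw [IsIso.comp_inv_eq, Category.assoc, h2, IsIso.inv_hom_id_assoc]
    erw [reassoc_of% h3]
    erw [resHom_natural F n i q h f R R' φ comm]

end Groth.L17.DerBC
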