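import Groth.Agent.L17.DerBC.Basic
import Groth.Agent.L17.DerBC.SingleIso
import Mathlib.Algebra.Homology.HomologicalComplexLimits

/-!
# Base change on objects in one degree, and filtered colimits
-/

set_option autoImplicit false
set_option linter.style.haveILetI false
set_option linter.unusedSectionVars false
set_option backward.defeqAttrib.useBackward true
set_option backward.isDefEq.respectTransparency false
set_option backward.isDefEq.respectTransparency.types false

universe w₁ w₂ w₃ w₄ v₁ v₂ v₃ v₄ u₁ u₂ u₃ u₄ v u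

open CategoryTheory CategoryTheory.Limits DerivedCategory

noncomputable section

namespace Groth.L17.DerBC

open Groth.L10.ExactAdj (adjCx adjD)

/-- A natural transformation between functors preserving a colimit, invertible on the diagram. -/
theorem isIso_app_pt {C : Type u₁} [Category.{v₁} C] {D : Type u₂} [Category.{v₂} D] {G₁ G₂ : C ⥤ D}
    (τ : G₁ ⟶ G₂) {J : Type u} [Category.{v} J] {K : J ⥤ C} (c : Cocone K) (h₁ : IsColimit (G₁.mapCocone c))
    (h₂ : IsColimit (G₂.mapCocone c)) (h : ∀ j, IsIso (τ.app (K.obj j))) : IsIso (τ.app c.pt) := by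
  haveI : ∀ j, IsIso ((Functor.whiskerLeft K τ).app j) := h
  haveI := NatIso.isIso_of_isIso_app (Functor.whiskerLeft K τ)
  have e : τ.app c.pt = (h₁.coconePointsIsoOfNatIso h₂ (asIso (Functor.whiskerLeft K τ))).hom :=
    h₁.hom_ext fun j => by
      rw [IsColimit.comp_coconePointsIsoOfNatIso_hom]
      simp only [Functor.mapCocone_ι_app, asIso_hom, Functor.whiskerLeft_app]
      exact τ.naturality (c.ι.app j)
  rw [e]
  infer_instance

variable {A : Type u₁} [Category.{v₁} A] [Abelian A] [HasDerivedCategory.{w₁} A]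
  {A' : Type u₂} [Category.{v₂} A'] [Abelian A'] [HasDerivedCategory.{w₂} A']
  {B : Type u₃} [Category.{v₃} B] [Abelian B] [HasDerivedCategory.{w₃} B]
  {B' : Type u₄} [Category.{v₄} B'] [Abelian B'] [HasDerivedCategory.{w₄} B']
  [HasInjectiveResolutions A] [HasInjectiveResolutions A']
  [Groth.L10.KInjDerived.EnoughKInjectives A] [Groth.L10.KInjDerived.EnoughKInjectives A']
  {LX : A ⥤ A'} {RX : A' ⥤ A} [LX.Additive] [RX.Additive]
  [PreservesFiniteLimits LX] [PreservesFiniteColimits LX] [PreservesFiniteLimits RX] [PreservesFiniteColimits RX]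
  (aX : LX ⊣ RX)
  {LY : B ⥤ B'} {RY : B' ⥤ B} [LY.Additive] [RY.Additive]
  [PreservesFiniteLimits LY] [PreservesFiniteColimits LY] [PreservesFiniteLimits RY] [PreservesFiniteColimits RY]
  (aY : LY ⊣ RY)
  {F : A ⥤ B} {G : A' ⥤ B'} [F.Additive] [G.Additive] (sq : RX ⋙ F ≅ G ⋙ RY)
  {RF : DerivedCategory A ⥤ DerivedCategory B} (α : F.mapHomotopyCategory (ComplexShape.up ℤ) ⋙ Qh ⟶ Qh ⋙ RF)
  {RG : DerivedCategory A' ⥤ DerivedCategory B'} (α' : G.mapHomotopyCategory (ComplexShape.up ℤ) ⋙ Qh ⟶ Qh ⋙ RG)
  [RF.IsRightDerivedFunctor α (HomotopyCategory.quasiIso A (ComplexShape.up ℤ))]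
  [RG.IsRightDerivedFunctor α' (HomotopyCategory.quasiIso A' (ComplexShape.up ℤ))]

/-- Base change in one degree, from the property of the mates of all natural isomorphisms of derived composites. -/
theorem isIso_H_bc_single
    (hRX : ∀ J : CochainComplex A' ℤ, J.IsKInjective →
      CochainComplex.IsKInjective ((RX.mapHomologicalComplex (ComplexShape.up ℤ)).obj J))
    (M : A) (n i : ℤ) (q : ℕ) (hq : n + (q : ℤ) = i)
    (h : ∀ β'' : RX ⋙ F.rightDerived q ≅ G.rightDerived q ⋙ RY,
      IsIso ((aY.homEquiv _ _).symm ((F.rightDerived q).map (aX.unit.app M) ≫ β''.hom.app (LX.obj M)))) :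
    IsIso ((homologyFunctor B' i).map ((bc aX aY sq α α').app (Q.obj ((CochainComplex.singleFunctor A n).obj M)))) := by
  let S := CochainComplex.singleFunctor A n
  let S' := CochainComplex.singleFunctor A' n
  let σL := HomologicalComplex.singleMapHomologicalComplex LX (ComplexShape.up ℤ) n
  let σR := HomologicalComplex.singleMapHomologicalComplex RX (ComplexShape.up ℤ) n
  haveI := isIso_β aX sq α α' i hRX
  let eA := singleIso F n i q α hq
  let eG := singleIso G n i q α' hq
  let β'' : RX ⋙ F.rightDerived q ≅ G.rightDerived q ⋙ RY :=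
    Functor.isoWhiskerLeft RX eA.symm ≪≫
      Functor.isoWhiskerRight σR.symm (HF RF i) ≪≫
      Functor.isoWhiskerLeft S' (asIso (β aX sq α α' i)) ≪≫
      Functor.isoWhiskerRight eG RY
  have hβ := h β''
  rw [isIso_H_bc_iff aX aY sq α α' i (S.obj M)]
  let c : (HG RG i).obj ((LX.mapHomologicalComplex (ComplexShape.up ℤ)).obj (S.obj M)) ≅
      (G.rightDerived q).obj (LX.obj M) :=
    (HG RG i).mapIso (σL.app M) ≪≫ eG.app (LX.obj M)
  have hsingle : (adjCx aX).unit.app (S.obj M) ≫
      (RX.mapHomologicalComplex (ComplexShape.up ℤ)).map (σL.hom.app M) ≫ σR.hom.app (LX.obj M) =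
      S.map (aX.unit.app M) := by
    refine HomologicalComplex.from_single_hom_ext ?_
    simp only [S, σL, σR, HomologicalComplex.comp_f, CochainComplex.singleFunctor, CochainComplex.singleFunctors,
      HomologicalComplex.single_map_f_self, HomologicalComplex.singleMapHomologicalComplex_hom_app_self,
      Functor.mapHomologicalComplex_map_f, Groth.L10.ExactAdj.adjCx, Adjunction.mkOfUnitCounit_unit]
    have hn := aX.unit.naturality (HomologicalComplex.singleObjXSelf (ComplexShape.up ℤ) n M).hom
    simp only [Functor.id_map, Functor.comp_map, Functor.map_comp, Category.assoc] at hn ⊢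
    erw [← reassoc_of% hn]
    simp [← Functor.map_comp]
  have key : ψ aX sq α α' i (S.obj M) ≫ RY.map c.hom =
      eA.hom.app M ≫ (F.rightDerived q).map (aX.unit.app M) ≫ β''.hom.app (LX.obj M) := by
    have n1 := (β aX sq α α' i).naturality (σL.hom.app M)
    have n2 := eA.hom.naturality (aX.unit.app M)
    simp only [Functor.comp_map] at n1 n2
    have h2 : (HF RF i).map ((adjCx aX).unit.app (S.obj M)) ≫
        (HF RF i).map ((RX.mapHomologicalComplex (ComplexShape.up ℤ)).map (σL.hom.app M)) =
        (HF RF i).map (S.map (aX.unit.app M)) ≫ (HF RF i).map (σR.inv.app (LX.obj M)) := by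
      rw [← Functor.map_comp, ← Functor.map_comp]
      refine congrArg (HF RF i).map ?_
      rw [← cancel_mono (σR.hom.app (LX.obj M)), Category.assoc, Category.assoc, hsingle, Iso.inv_hom_id_app]
      exact (Category.comp_id _).symm
    simp only [ψ, c, β'', Iso.trans_hom, Functor.mapIso_hom, Iso.app_hom, Functor.map_comp, NatTrans.comp_app,
      Functor.isoWhiskerLeft_hom, Functor.isoWhiskerRight_hom, Iso.symm_hom, Functor.whiskerLeft_app,
      Functor.whiskerRight_app, asIso_hom, Category.assoc]
    erw [← reassoc_of% n1]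
    erw [reassoc_of% h2]
    erw [← reassoc_of% n2]
    erw [Iso.hom_inv_id_app_assoc]
    rfl
  have h3 : (aY.homEquiv _ _).symm (ψ aX sq α α' i (S.obj M)) ≫ c.hom =
      LY.map (eA.hom.app M) ≫ (aY.homEquiv _ _).symm
        ((F.rightDerived q).map (aX.unit.app M) ≫ β''.hom.app (LX.obj M)) := by
    rw [← Adjunction.homEquiv_naturality_right_symm, key, ← Adjunction.homEquiv_naturality_left_symm]
    rfl
  haveI := hβ
  haveI : IsIso ((aY.homEquiv _ _).symm (ψ aX sq α α' i (S.obj M)) ≫ c.hom) := by
    rw [h3]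
    exact @IsIso.comp_isIso _ _ _ _ _ _ _ inferInstance hβ
  exact IsIso.of_isIso_comp_right _ c.hom

end Groth.L17.DerBC
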