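import Groth.Agent.L17.DerBC.CohTwist
import Groth.Agent.L17.DerBC.Single
import Groth.Agent.L17.DerBC.PullQCoh
import Groth.Agent.L17.DerBC.Devissage
import Groth.Agent.L17.IndRpush.PushColim
import Groth.Agent.L17.ProperCoh
import Groth.Agent.L10.RDerCohIn
import Groth.Agent.L29.DCoh.RpushColim

/-!
# Base change for completions on quasi-coherent modules placed in one degree
-/

set_option autoImplicit false
set_option linter.style.haveILetI false
set_option linter.unusedSectionVars false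
set_option backward.defeqAttrib.useBackward true
set_option backward.isDefEq.respectTransparency false
set_option backward.isDefEq.respectTransparency.types false

universe u

open CategoryTheory CategoryTheory.Limits AlgebraicGeometry TopologicalSpace Opposite DerivedCategory

attribute [local instance] HasDerivedCategory.standard

noncomputable section

namespace Groth.L17.DerBC

open Groth.L17.FSheaf Groth.L17.FSheaf.RpushF Groth.L17.FSheaf.RpushComp Groth.L17.FSheaf.RpushBC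
open Groth.L10 (DerivedAdj.isGE_map)

variable {X Y : Scheme.{u}} (f : X ⟶ Y) {𝔛 𝔜 : FSch.Sys.{u}} (φ : 𝔛 ⟶ 𝔜) (hX : 𝔛.IsLocNoethFormal)
  (hY : 𝔜.IsLocNoethFormal) (p : ∀ k, 𝔛.X k ⟶ X) (hp : ∀ k, 𝔛.ι k ≫ p (k + 1) = p k)
  (r : ∀ k, 𝔜.X k ⟶ Y) (hr : ∀ k, 𝔜.ι k ≫ r (k + 1) = r k)
  (hsq : ∀ n, p n ≫ f = (φ : FSch.Hom 𝔛 𝔜).app n ≫ r n)
  [PreservesFiniteLimits (kap 𝔛 hX.1 p hp).pull] [PreservesFiniteLimits (kap 𝔜 hY.1 r hr).pull]
  [PreservesFiniteColimits (kap 𝔛 hX.1 p hp).push] [PreservesFiniteColimits (kap 𝔜 hY.1 r hr).push]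
  [SiteCmp.HasRpushD (ModSite.RMor.ofScheme f)] [SiteCmp.HasRpushD (FSch.homMor φ hX.1 hY.1)]

/-- `κ_Y^* Rf_*`. -/
abbrev lhs : DerivedCategory (ModSite.Mod X.sheaf) ⥤ DerivedCategory (FSch.ModF 𝔜 hY.1) :=
  SiteCmp.RpushD (ModSite.RMor.ofScheme f) ⋙ SiteCmp.pullD (kap 𝔜 hY.1 r hr)

/-- `Rf̂_* κ_X^*`. -/
abbrev rhs : DerivedCategory (ModSite.Mod X.sheaf) ⥤ DerivedCategory (FSch.ModF 𝔜 hY.1) :=
  SiteCmp.pullD (kap 𝔛 hX.1 p hp) ⋙ SiteCmp.RpushD (FSch.homMor φ hX.1 hY.1)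

/-- The unit of `Rf_*`. -/
abbrev αS (g : X ⟶ Y) [SiteCmp.HasRpushD (ModSite.RMor.ofScheme g)] :=
  (SiteCmp.pushKh (ModSite.RMor.ofScheme g)).totalRightDerivedUnit DerivedCategory.Qh
    (HomotopyCategory.quasiIso (ModSite.Mod X.sheaf) (ComplexShape.up ℤ))

/-- The unit of `Rf̂_*`. -/
abbrev αT :=
  (SiteCmp.pushKh (FSch.homMor φ hX.1 hY.1)).totalRightDerivedUnit DerivedCategory.Qh
    (HomotopyCategory.quasiIso (FSch.ModF 𝔛 hX.1) (ComplexShape.up ℤ))

/-- The base change transformation of a completion. -/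
def bcC : lhs f hY r hr ⟶ rhs φ hX hY p hp :=
  bc (kap 𝔛 hX.1 p hp).adj (kap 𝔜 hY.1 r hr).adj (sqI f φ hX.1 hY.1 p hp r hr hsq) (αS f) (αT φ hX hY)

/-- quasi-coherent modules -/
abbrev QP (X : Scheme.{u}) : ObjectProperty (ModSite.Mod X.sheaf) := fun M => Coh.IsQCoh (X := X) M

variable [IsLocallyNoetherian X] [IsLocallyNoetherian Y] [IsProper f] (hφ : FSch.IsProperHom φ)
  [IsClosedImmersion (p 0)] [IsClosedImmersion (r 0)]
  (hcl : ∀ k, IsClosedImmersion (p k)) {𝓘 : Y.IdealSheafData}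
  (hcut : CutBy 𝔛 p (𝓘.comap f)) (hcutY : CutBy 𝔜 r 𝓘)

include hφ in
theorem isCompact_preimage_of_isProperHom : ∀ V : (𝔜.X 0).Opens, IsAffineOpen V →
    IsCompact ((φ : FSch.Hom 𝔛 𝔜).app 0 ⁻¹ᵁ V : Set (𝔛.X 0)) := fun V hV => by
  haveI : IsProper ((φ : FSch.Hom 𝔛 𝔜).app 0) := hφ.2
  exact QuasiCompact.isCompact_preimage _ V.2 hV.isCompact

include hsq hφ hcl hcut hcutY in
/-- Base change on coherent modules in one degree. -/
theorem isIso_bcC_coh (M : X.Modules) (hM : Coh.IsCoh M) (n i : ℤ) :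
    IsIso ((homologyFunctor (FSch.ModF 𝔜 hY.1) i).map ((bcC f φ hX hY p hp r hr hsq).app
      (Q.obj ((CochainComplex.singleFunctor (ModSite.Mod X.sheaf) n).obj M)))) := by
  obtain ⟨_, _, _⟩ := Groth.L10.ModRDer.insts X.sheaf
  obtain ⟨_, _, _⟩ := Groth.L10.ModRDer.insts Y.sheaf
  obtain ⟨_, _, _⟩ := Groth.L10.ModRDer.insts (𝔛.Osh hX.1)
  obtain ⟨_, _, _⟩ := Groth.L10.ModRDer.insts (𝔜.Osh hY.1)
  let K := Q.obj ((CochainComplex.singleFunctor (ModSite.Mod X.sheaf) n).obj M)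
  by_cases hi : i < n
  · haveI : ((CochainComplex.singleFunctor (ModSite.Mod X.sheaf) n).obj M).IsStrictlyGE n := inferInstance
    haveI : K.IsGE n := (DerivedCategory.isGE_Q_obj_iff _ _).2 inferInstance
    haveI := Groth.L10.RDerBound.isGE_obj (αS f) K n
    haveI : ((SiteCmp.pullD (kap 𝔛 hX.1 p hp)).obj K).IsGE n :=
      DerivedAdj.isGE_map (w := (kap 𝔛 hX.1 p hp).pull) K n
    have h1 : ((lhs f hY r hr).obj K).IsGE n :=
      DerivedAdj.isGE_map (w := (kap 𝔜 hY.1 r hr).pull) ((SiteCmp.RpushD (ModSite.RMor.ofScheme f)).obj K) n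
    have h2 : ((rhs φ hX hY p hp).obj K).IsGE n :=
      Groth.L10.RDerBound.isGE_obj (αT φ hX hY) ((SiteCmp.pullD (kap 𝔛 hX.1 p hp)).obj K) n
    exact ⟨0, (DerivedCategory.isZero_of_isGE _ n i hi).eq_of_src _ _,
      (DerivedCategory.isZero_of_isGE _ n i hi).eq_of_src _ _⟩
  · obtain ⟨q, hq⟩ : ∃ q : ℕ, n + (q : ℤ) = i := ⟨(i - n).toNat, by omega⟩
    refine isIso_H_bc_single (kap 𝔛 hX.1 p hp).adj (kap 𝔜 hY.1 r hr).adj (sqI f φ hX.1 hY.1 p hp r hr hsq)
      (αS f) (αT φ hX hY) (fun J hJ => ?_) M n i q hq fun β'' => ?_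
    · exact @Groth.L10.KInjTransfer.isKInjective_map _ _ _ _ _ _ _ _ (kap 𝔛 hX.1 p hp).adj
        inferInstance inferInstance inferInstance inferInstance J hJ
    · haveI := preservesInjective_pushKap hX.1 p hp hcut
      haveI : HasInjectiveResolutions X.Modules :=
        (inferInstance : HasInjectiveResolutions (ModSite.Mod X.sheaf))
      exact isIso_mate f φ hX hY p hp r hr hsq M q hM hφ hcl hcut hcutY
        (Groth.L17.ProperCoh.isCoh_Rpush f M hM q) β''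

include hsq hφ hcl hcut hcutY in
/-- Base change on quasi-coherent modules in one degree. -/
theorem onSingles : OnSingles (bcC f φ hX hY p hp r hr hsq) (QP X) := fun M hM n i => by
  obtain ⟨_, _, _⟩ := Groth.L10.ModRDer.insts X.sheaf
  obtain ⟨_, _, _⟩ := Groth.L10.ModRDer.insts Y.sheaf
  obtain ⟨_, _, _⟩ := Groth.L10.ModRDer.insts (𝔛.Osh hX.1)
  obtain ⟨_, _, _⟩ := Groth.L10.ModRDer.insts (𝔜.Osh hY.1)
  haveI : IsGrothendieckAbelian.{u} (ModSite.Mod X.sheaf) := Groth.L10.shMod_isGrothendieckAbelian _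
  haveI : IsGrothendieckAbelian.{u} (ModSite.Mod Y.sheaf) := Groth.L10.shMod_isGrothendieckAbelian _
  haveI : IsGrothendieckAbelian.{u} (FSch.ModF 𝔛 hX.1) := Groth.L10.shMod_isGrothendieckAbelian _
  haveI : IsGrothendieckAbelian.{u} (FSch.ModF 𝔜 hY.1) := Groth.L10.shMod_isGrothendieckAbelian _
  haveI : HasInjectiveResolutions X.Modules :=
    (inferInstance : HasInjectiveResolutions (ModSite.Mod X.sheaf))
  refine isIso_app_congr _ ((singleFunctorIsoCompQ (ModSite.Mod X.sheaf) n).symm.app M) i ?_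
  haveI : Coh.IsQCoh (X := X) M := hM
  obtain ⟨I, _, _, D, c, hc, hcoh, -, rfl⟩ := Groth.L17.CohUnion.exists_isColimit_coh (X := X) M
  let A := ModSite.Mod X.sheaf
  let D' : I ⥤ A := D
  let c' : Cocone D' := c
  let hc' : IsColimit c' := hc
  let S := CochainComplex.singleFunctor A n
  let LX := (kap 𝔛 hX.1 p hp).pull
  let LY := (kap 𝔜 hY.1 r hr).pull
  let RF := SiteCmp.RpushD (ModSite.RMor.ofScheme f)
  let RG := SiteCmp.RpushD (FSch.homMor φ hX.1 hY.1)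
  let H := homologyFunctor (FSch.ModF 𝔜 hY.1) i
  let τ := Functor.whiskerLeft (S ⋙ Q) (Functor.whiskerRight (bcC f φ hX hY p hp r hr hsq) H)
  show IsIso (τ.app c'.pt)
  haveI : PreservesColimitsOfShape I S :=
    inferInstanceAs (PreservesColimitsOfShape I (HomologicalComplex.single A (ComplexShape.up ℤ) n))
  have hS : IsColimit (S.mapCocone c') := isColimitOfPreserves S hc'
  have hge : ∀ j, (Q.obj ((D' ⋙ S).obj j)).IsGE n := fun j =>
    haveI : (S.obj (D'.obj j)).IsStrictlyGE n := inferInstance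
    (DerivedCategory.isGE_Q_obj_iff _ _).2 (inferInstanceAs ((S.obj (D'.obj j)).IsGE n))
  haveI : PreservesColimitsOfSize.{u, u} LX := (kap 𝔛 hX.1 p hp).adj.leftAdjoint_preservesColimits
  haveI : PreservesColimitsOfSize.{u, u} LY := (kap 𝔜 hY.1 r hr).adj.leftAdjoint_preservesColimits
  haveI : PreservesColimitsOfShape I (ModSite.RMor.ofScheme f).push :=
    Groth.L29.DC.RpushColim.preservesColimitsOfShape_push f I
  haveI := Groth.L17.IndRpush.preservesColimitsOfShape_push hX hY.1 φ (isCompact_preimage_of_isProperHom φ hφ) I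
  haveI : PreservesLimitsOfSize.{0, 0} (ModSite.RMor.ofScheme f).push :=
    (ModSite.RMor.ofScheme f).adj.rightAdjoint_preservesLimits
  haveI : PreservesFiniteLimits (ModSite.RMor.ofScheme f).push := PreservesLimitsOfSize.preservesFiniteLimits _
  haveI : PreservesLimitsOfSize.{0, 0} (FSch.homMor φ hX.1 hY.1).push :=
    (FSch.homMor φ hX.1 hY.1).adj.rightAdjoint_preservesLimits
  haveI : PreservesFiniteLimits (FSch.homMor φ hX.1 hY.1).push := PreservesLimitsOfSize.preservesFiniteLimits _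
  obtain ⟨hF⟩ := Groth.L17.IndRpush.ColimDer.isColimit_G0 (αS f)
    (fun D₁ c₁ h₁ hI => Groth.L29.DC.RpushColim.rAcyclic_colimit f I D₁ c₁ h₁ hI) (D' ⋙ S) _ hS n hge i
  let LXc := LX.mapHomologicalComplex (ComplexShape.up ℤ)
  have hge' : ∀ j, (Q.obj ((D' ⋙ S ⋙ LXc).obj j)).IsGE n := fun j =>
    haveI : (S.obj (D'.obj j)).IsStrictlyGE n := inferInstance
    haveI : CochainComplex.IsStrictlyGE (LXc.obj (S.obj (D'.obj j))) n :=
      (CochainComplex.isStrictlyGE_iff _ _).2 fun k hk => LX.map_isZero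
        ((S.obj (D'.obj j)).isZero_of_isStrictlyGE n k hk)
    (DerivedCategory.isGE_Q_obj_iff _ _).2 (inferInstanceAs (CochainComplex.IsGE (LXc.obj (S.obj (D'.obj j))) n))
  obtain ⟨hG⟩ := Groth.L17.IndRpush.ColimDer.isColimit_G0 (αT φ hX hY)
    (Groth.L17.IndRpush.acColim hX hY.1 φ (isCompact_preimage_of_isProperHom φ hφ) I)
    (D' ⋙ S ⋙ LXc) (LXc.mapCocone (S.mapCocone c')) (isColimitOfPreserves LXc hS) n hge' i
  let e₁ : S ⋙ (Q ⋙ RF ⋙ homologyFunctor _ i) ⋙ LY ≅ (S ⋙ Q) ⋙ lhs f hY r hr ⋙ H :=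
    Functor.isoWhiskerLeft (S ⋙ Q ⋙ RF) (hD LY i).symm
  let e₂ : S ⋙ LXc ⋙ (Q ⋙ RG ⋙ H) ≅ (S ⋙ Q) ⋙ rhs φ hX hY p hp ⋙ H :=
    Functor.isoWhiskerLeft S (Functor.isoWhiskerRight LX.mapDerivedCategoryFactors.symm (RG ⋙ H))
  have h₁ : IsColimit ((S ⋙ (Q ⋙ RF ⋙ homologyFunctor _ i) ⋙ LY).mapCocone c') :=
    (isColimitOfPreserves LY hF).ofIsoColimit (Cocone.ext (Iso.refl _))
  have h₂ : IsColimit ((S ⋙ LXc ⋙ (Q ⋙ RG ⋙ H)).mapCocone c') :=
    hG.ofIsoColimit (Cocone.ext (Iso.refl _))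
  exact isIso_app_pt τ c' (IsColimit.mapCoconeEquiv e₁ h₁) (IsColimit.mapCoconeEquiv e₂ h₂)
    fun j => isIso_bcC_coh f φ hX hY p hp r hr hsq hφ hcl hcut hcutY (D'.obj j) (hcoh j) n i

end Groth.L17.DerBC
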